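import Cfsg.Agent.SubgroupCount.Criterion

/-!
Kulakoff's congruence for the number of subgroups of a given order of a p-group.
-/

set_option autoImplicit false

namespace Cfsg.Agent.SubgroupCount

open Subgroup Cfsg.Agent.MaxClass
open scoped Classical commutatorElement

universe u

theorem zmod_sq_zero (p : ℕ) : (p : ZMod (p ^ 2)) * p = 0 := by
  rw [← Nat.cast_mul, ← pow_two, ZMod.natCast_self]

/-- Subgroups of a given order in a 2-group of maximal class. -/
theorem mc_one (n : ℕ) : ∀ (S : Type u) [Group S] [Finite S], MC S → Nat.card S = 2 ^ n →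
    ∀ k, 1 ≤ k → k + 2 ≤ n → ((subs 2 k S).card : ZMod (2 ^ 2)) = 1 := by
  have : Fact (Nat.Prime 2) := ⟨Nat.prime_two⟩
  induction n with
  | zero => intro S _ _ _ _ k _ hk; omega
  | succ n ih =>
    intro S _ _ h hn k hk1 hk
    rcases Nat.lt_or_ge n 3 with hlt | hge
    · obtain rfl : n = 2 := by omega
      obtain rfl : k = 1 := by omega
      exact MC_eight h hn
    have hS : IsPGroup 2 S := IsPGroup.of_card hn
    have hnc := MC_not_cyclic h
    obtain ⟨hall, hone⟩ := MC_maxs h hn (by omega)
    have hrec := recursion hn hk (not_le_fr hS hnc)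
    have hN := maxs_cast hS hnc
    by_cases hlow : k + 2 ≤ n
    · have hval : ∀ L ∈ maxs 2 S, ((subs 2 k L).card : ZMod (2 ^ 2)) = 1 := by
        intro L hL
        have hc : Nat.card L = 2 ^ n := (card_of_max hn (mem_maxs.1 hL)).2
        rcases hall L hL with hc' | hmc
        · rw [subs_cyclic hc' hc (by omega), Nat.cast_one]
        · exact ih L hmc hc k hk1 hlow
      rw [Finset.sum_congr rfl hval, Finset.sum_const, nsmul_one, hN] at hrec
      linear_combination -hrec
    · obtain rfl : n = k + 1 := by omega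
      have hval : ∀ L ∈ maxs 2 S, ((subs 2 k L).card : ZMod (2 ^ 2)) + 2 * (if IsCyclic L then 1 else 0) = 3 := by
        intro L hL
        have hc : Nat.card L = 2 ^ (k + 1) := (card_of_max hn (mem_maxs.1 hL)).2
        by_cases hc' : IsCyclic L
        · rw [if_pos hc', subs_cyclic hc' hc (by omega)]; decide
        · rw [if_neg hc', subs_top_step hc, maxs_cast (IsPGroup.of_card hc) hc']; decide
      have hsum := Finset.sum_congr rfl hval
      rw [Finset.sum_add_distrib, ← Finset.mul_sum, Finset.sum_boole, hone, Finset.sum_const, nsmul_eq_mul,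
        hN, hrec] at hsum
      push_cast at hsum
      have h4 : (4 : ZMod (2 ^ 2)) = 0 := by decide
      linear_combination hsum + h4

variable {p : ℕ} [hp : Fact p.Prime]

/-- Kulakoff: a non-cyclic p-group, not a 2-group of maximal class, has `1 + p` subgroups of each
order, modulo `p ^ 2`. -/
theorem kulakoff (m : ℕ) : ∀ (X : Type u) [Group X] [Finite X], Nat.card X = p ^ m → ¬ IsCyclic X →
    (p = 2 → ¬ MC X) → ∀ k, 1 ≤ k → k < m → ((subs p k X).card : ZMod (p ^ 2)) = 1 + p := by
  induction m with
  | zero => intro X _ _ _ _ _ k _ hk; omega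
  | succ m ih =>
    intro X _ _ hm hnc hmc k hk1 hk
    have hX : IsPGroup p X := IsPGroup.of_card hm
    by_cases htop : k = m
    · subst htop
      rw [subs_top_step hm]
      exact maxs_cast hX hnc
    have hk2 : k + 2 ≤ m + 1 := by omega
    let Ex : Subgroup X → Prop := fun M => IsCyclic M ∨ (p = 2 ∧ MC M ∧ k + 2 ≤ m)
    have hval : ∀ M ∈ maxs p X,
        ((subs p k M).card : ZMod (p ^ 2)) + (p : ZMod (p ^ 2)) * (if Ex M then 1 else 0) = 1 + p := by
      intro M hM
      have hc : Nat.card M = p ^ m := (card_of_max hm (mem_maxs.1 hM)).2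
      by_cases hex : Ex M
      · rw [if_pos hex, mul_one]
        rcases hex with hcy | ⟨h2, hmcM, hkm⟩
        · rw [subs_cyclic hcy hc (by omega), Nat.cast_one]
        · subst h2
          rw [mc_one m M hmcM hc k hk1 hkm]
      · rw [if_neg hex, mul_zero, add_zero]
        simp only [Ex, not_or, not_and] at hex
        by_cases hmcM : p = 2 ∧ MC M
        · have hkm := hex.2 hmcM.1 hmcM.2
          obtain rfl : m = k + 1 := by omega
          rw [subs_top_step hc]
          exact maxs_cast (IsPGroup.of_card hc) hex.1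
        · exact ih M hc hex.1 (fun h2 h => hmcM ⟨h2, h⟩) k hk1 (by omega)
    have hc0 : (((maxs p X).filter Ex).card : ZMod p) = 0 := by
      by_cases hsome : ∃ M₀ ∈ maxs p X, Ex M₀
      swap
      · rw [Finset.filter_eq_empty_iff.2 fun M hM h => hsome ⟨M, hM, h⟩]; simp
      obtain ⟨W, hW, hiff⟩ : ∃ W : Subgroup X, W ≠ ⊤ ∧ ∀ M ∈ maxs p X, (Ex M ↔ ¬ W ≤ M) := by
        by_cases hsix : p = 2 ∧ m = 3 ∧ k + 2 ≤ m ∧ ∃ M ∈ maxs p X, MC (M : Subgroup X)
        · obtain ⟨h2, h3, hkm, M₀, hM₀, hc₀⟩ := hsix
          subst h2; subst h3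
          obtain ⟨hne, h⟩ := sixteen hm (hmc rfl) (mem_maxs.1 hM₀) hc₀
          refine ⟨center X, hne, fun M hM => ?_⟩
          rw [← h M hM]
          exact ⟨fun hx => hx.imp id fun hy => hy.2.1, fun hx => hx.imp id fun hy => ⟨rfl, hy, hkm⟩⟩
        obtain ⟨E, hEn, hE, hEp⟩ := exists_plane hX hnc hmc
        obtain ⟨M₀, hM₀, hex₀⟩ := hsome
        have hnot : ∀ M ∈ maxs p X, Ex M → ¬ E ≤ M := by
          intro M hM hex hEM
          rcases hex with hcy | ⟨h2, hmcM, hkm⟩
          · exact not_cyclic_of_plane hE hEp hEM hcy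
          · subst h2
            have hc : Nat.card M = 2 ^ m := (card_of_max hm (mem_maxs.1 hM)).2
            have h3 := three_le_of_MC hmcM hc
            have h4 : 4 ≤ m := by
              by_contra hlt
              exact hsix ⟨rfl, by omega, hkm, M, hM, hmcM⟩
            have : (E.subgroupOf M).Normal := hEn.comap M.subtype
            exact MC_no_four hmcM hc h4 (E.subgroupOf M)
              (by rw [Nat.card_congr (subgroupOfEquivOfLe hEM).toEquiv, hE]; norm_num)
              fun x hx => Subtype.ext (hEp _ hx)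
        refine ⟨E, fun h => ?_, fun M hM => ⟨hnot M hM, fun hEM => ?_⟩⟩
        · rw [h, card_top, hm] at hE
          have := Nat.pow_right_injective hp.out.two_le hE
          omega
        · rcases hex₀ with hcy | ⟨h2, hmc₀, hkm⟩
          · exact Or.inl (cyclic_of_cyclic hm (by omega) hmc hE hEp (mem_maxs.1 hM₀) (mem_maxs.1 hM)
              hcy (hnot M₀ hM₀ (Or.inl hcy)) hEM)
          · subst h2
            have hc : Nat.card M₀ = 2 ^ m := (card_of_max hm (mem_maxs.1 hM₀)).2
            have h3 := three_le_of_MC hmc₀ hc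
            have h4 : 4 ≤ m := by
              by_contra hlt
              exact hsix ⟨rfl, by omega, hkm, M₀, hM₀, hmc₀⟩
            exact Or.inr ⟨rfl, mc_of_mc hm (by omega) hE (mem_maxs.1 hM₀) (mem_maxs.1 hM) hmc₀
              (hnot M₀ hM₀ (Or.inr ⟨rfl, hmc₀, hkm⟩)) hEM, hkm⟩
      rw [Finset.filter_congr hiff]
      have h := congrArg (fun n : ℕ => (n : ZMod p))
        (Finset.card_filter_add_card_filter_not (s := maxs p X) (fun M => W ≤ M))
      simp only [Nat.cast_add] at h
      have e1 : (((maxs p X).filter fun M => W ≤ M).card : ZMod p) = 1 := over_cast hX hW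
      have e2 : ((maxs p X).card : ZMod p) = 1 := by
        rw [maxs_eq_ovr]; exact over_cast hX (bot_ne_top hnc)
      rw [e1, e2] at h
      linear_combination h
    have hsum := Finset.sum_congr rfl hval
    rw [Finset.sum_add_distrib, ← Finset.mul_sum, Finset.sum_boole, pMod (b := 0) (by simpa using hc0),
      Nat.cast_zero, mul_zero, add_zero, recursion hm hk2 (not_le_fr hX hnc), Finset.sum_const,
      nsmul_eq_mul, maxs_cast hX hnc] at hsum
    linear_combination hsum + zmod_sq_zero p

theorem subs_eq_card {Y : Type u} [Group Y] [Finite Y] (k : ℕ) :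
    (subs p k Y).card = Nat.card {H : Subgroup Y // Nat.card H = p ^ k} := by
  rw [Nat.subtype_card (subs p k Y) (fun H => mem_subs)]

/-- In every p-group the number of subgroups of each order is `1` or `1 + p` modulo `p ^ 2`. -/
theorem one_or_one_add {Y : Type u} [Group Y] [Finite Y] {m : ℕ} (hm : Nat.card Y = p ^ m) {k : ℕ}
    (hk : k ≤ m) : ((subs p k Y).card : ZMod (p ^ 2)) = 1 ∨ ((subs p k Y).card : ZMod (p ^ 2)) = 1 + p := by
  rcases eq_or_ne p 2 with rfl | hodd
  · have h := frobenius m Y hm k hk
    rw [← Nat.cast_one, ZMod.natCast_eq_natCast_iff] at h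
    have h' : (subs 2 k Y).card % 2 = 1 % 2 := h
    have key : (subs 2 k Y).card % 4 = 1 ∨ (subs 2 k Y).card % 4 = 3 := by omega
    rw [← Nat.cast_one, ← Nat.cast_add, show (2 : ℕ) ^ 2 = 4 from rfl, ZMod.natCast_eq_natCast_iff,
      ZMod.natCast_eq_natCast_iff]
    exact key.imp (fun h => h) (fun h => h)
  · by_cases hc : IsCyclic Y
    · exact Or.inl (by rw [subs_cyclic hc hm hk, Nat.cast_one])
    rcases Nat.eq_zero_or_pos k with rfl | hk1
    · exact Or.inl (by rw [show subs p 0 Y = {⊥} by ext H; simp [mem_subs, Subgroup.card_eq_one]]; simp)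
    rcases Nat.lt_or_ge k m with hlt | hge
    · exact Or.inr (kulakoff m Y hm hc (fun h => absurd h hodd) k hk1 hlt)
    · obtain rfl : k = m := by omega
      exact Or.inl (by
        rw [show subs p k Y = {⊤} by
          ext H
          rw [mem_subs, Finset.mem_singleton, ← hm]
          exact ⟨fun h => eq_top_of_card_eq H h, fun h => by rw [h, card_top]⟩]
        simp)

end Cfsg.Agent.SubgroupCount
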