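import Cfsg.Agent.SubgroupCount.Kulakoff

/-!
The number of subgroups of order `p ^ a` of a finite group is congruent modulo `p ^ 2` to the number
of those inside one Sylow subgroup, when `p ^ a` is less than the order of the Sylow subgroup.
-/

set_option autoImplicit false

namespace Cfsg.Agent.SubgroupCount

open Subgroup
open scoped Classical Pointwise

universe u

theorem sum_orbits {Q T : Type*} [Group Q] [MulAction Q T] [Finite Q] [Fintype T] {R : Type*} [CommRing R]
    (f : T → R) (hf : ∀ (q : Q) (x : T), f (q • x) = f x)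
    (h0 : ∀ x : T, (((MulAction.stabilizer Q x).index : ℕ) : R) * f x = 0) :
    ∑ x, f x = 0 := by
  rw [Fintype.sum_equiv (MulAction.selfEquivSigmaOrbits Q T) f (fun y => f (y.2 : T)) fun x => rfl,
    Fintype.sum_sigma]
  refine Finset.sum_eq_zero fun ω _ => ?_
  have hconst : ∀ y : MulAction.orbit Q (Quotient.out ω), f (y : T) = f (Quotient.out ω) := by
    rintro ⟨_, q, rfl⟩
    exact hf q _
  rw [Finset.sum_congr rfl fun y _ => hconst y, Finset.sum_const, nsmul_eq_mul, Finset.card_univ,
    ← Nat.card_eq_fintype_card, Nat.card_congr (MulAction.orbitEquivQuotientStabilizer Q _)]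
  exact h0 _

variable {p : ℕ} [hp : Fact p.Prime] {G : Type u} [Group G] [Finite G]

/-- Conjugation action of a subgroup on a family of subgroups stable under it. -/
@[implicit_reducible]
def conjFamily (P : Subgroup G) (S : Subgroup G → Prop)
    (hS : ∀ g ∈ P, ∀ H, S H → S (MulAut.conj g • H)) : MulAction P {H : Subgroup G // S H} where
  smul g x := ⟨MulAut.conj (g : G) • x.1, hS g g.2 x.1 x.2⟩
  one_smul x := Subtype.ext (by
    show MulAut.conj ((1 : P) : G) • x.1 = x.1
    rw [Subgroup.coe_one, map_one, one_smul])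
  mul_smul g h x := Subtype.ext (by
    show MulAut.conj ((g * h : P) : G) • x.1 = MulAut.conj (g : G) • MulAut.conj (h : G) • x.1
    rw [Subgroup.coe_mul, map_mul, mul_smul])

omit [Finite G] in
theorem conj_smul_eq_iff (g : G) (H : Subgroup G) :
    MulAut.conj g • H = H ↔ g ∈ normalizer (H : Set G) := by
  rw [mem_normalizer_iff]
  constructor
  · intro h x
    constructor
    · intro hx
      rw [← h]
      exact smul_mem_pointwise_smul _ _ _ hx
    · intro hx
      rw [← h, mem_pointwise_smul_iff_inv_smul_mem] at hx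
      simpa [MulAut.smul_def, mul_assoc] using hx
  · intro h
    ext x
    rw [mem_pointwise_smul_iff_inv_smul_mem, h ((MulAut.conj g)⁻¹ • x)]
    simp [MulAut.smul_def, mul_assoc]

omit [Finite G] in
theorem normalizer_smul (g : G) (H : Subgroup G) :
    normalizer ((MulAut.conj g • H : Subgroup G) : Set G) = MulAut.conj g • normalizer (H : Set G) := by
  ext x
  rw [mem_pointwise_smul_iff_inv_smul_mem, ← conj_smul_eq_iff, ← conj_smul_eq_iff,
    MulAut.smul_def, MulAut.inv_apply, MulAut.conj_symm_apply, map_mul, map_mul, map_inv, mul_smul,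
    mul_smul, inv_smul_eq_iff]

theorem smul_self {g : G} {P : Subgroup G} (hg : g ∈ P) : MulAut.conj g • P = P :=
  (conj_smul_eq_iff g P).2 (le_normalizer hg)

omit hp [Finite G] in
theorem stab_eq (P : Subgroup G) (S : Subgroup G → Prop)
    (hS : ∀ g ∈ P, ∀ H, S H → S (MulAut.conj g • H)) (x : {H : Subgroup G // S H}) :
    letI := conjFamily P S hS
    MulAction.stabilizer P x = (normalizer (x.1 : Set G)).subgroupOf P := by
  letI := conjFamily P S hS
  ext g
  rw [MulAction.mem_stabilizer_iff, mem_subgroupOf, ← conj_smul_eq_iff]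
  exact Subtype.ext_iff

theorem card_smul_sub (g : G) (H : Subgroup G) : Nat.card (MulAut.conj g • H : Subgroup G) = Nat.card H :=
  (Nat.card_congr (equivSMul (MulAut.conj g) H).toEquiv).symm

theorem pow_of_relIndex {P : Subgroup G} (hP : IsPGroup p P) (K : Subgroup G) :
    ∃ j, K.relIndex P = p ^ j := by
  obtain ⟨n, hn⟩ := IsPGroup.iff_card.1 hP
  obtain ⟨j, -, hj⟩ := (Nat.dvd_prime_pow hp.out).1 (hn ▸ (K.subgroupOf P).index_dvd_card)
  exact ⟨j, hj⟩

theorem subs_congr_sylow (P : Sylow p G) {a n : ℕ} (hn : Nat.card P = p ^ n) (han : a < n) :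
    ((subs p a G).card : ZMod (p ^ 2)) = (subs p a (P : Subgroup G)).card := by
  set Q : Subgroup G := (P : Subgroup G) with hQdef
  have hQ : IsPGroup p Q := P.2
  have hQn : Nat.card Q = p ^ n := hn
  have hbig : ∀ K : Subgroup G, IsPGroup p K → ∀ j, Nat.card K = p ^ j → j ≤ n := by
    intro K hK j hj
    obtain ⟨R, hR⟩ := hK.exists_le_sylow
    have h := card_le_of_le hR
    rw [hj, Nat.card_congr (Sylow.equiv R P).toEquiv] at h
    rw [hn] at h
    exact (Nat.pow_le_pow_iff_right hp.out.one_lt).1 h
  have hinv : ∀ g ∈ Q, ∀ H : Subgroup G, (normalizer ((MulAut.conj g • H : Subgroup G) : Set G)).relIndex Q =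
      (normalizer (H : Set G)).relIndex Q := by
    intro g hg H
    rw [normalizer_smul]
    conv_lhs => rw [← smul_self hg]
    exact relIndex_pointwise_smul _ _ _
  set F := (subs p a G).filter (fun H => ¬ H ≤ Q) with hF
  suffices hF0 : (F.card : ZMod (p ^ 2)) = 0 by
    rw [← Finset.card_filter_add_card_filter_not (s := subs p a G) (fun H => H ≤ Q), Nat.cast_add,
      card_below Q a, ← hF, hF0, add_zero]
  rw [← Finset.card_filter_add_card_filter_not (s := F) (fun H : Subgroup G => (normalizer (H : Set G)).relIndex Q = p)]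
  have hlarge : ((F.filter fun H : Subgroup G => ¬ (normalizer (H : Set G)).relIndex Q = p).card : ZMod (p ^ 2)) = 0 := by
    let S : Subgroup G → Prop := fun H =>
      H ∈ F.filter fun H : Subgroup G => ¬ (normalizer (H : Set G)).relIndex Q = p
    have hS : ∀ g ∈ Q, ∀ H, S H → S (MulAut.conj g • H) := by
      intro g hg H hH
      simp only [S, hF, Finset.mem_filter, mem_subs] at hH ⊢
      refine ⟨⟨by rw [card_smul_sub]; exact hH.1.1, fun hle => hH.1.2 ?_⟩, by rw [hinv g hg]; exact hH.2⟩
      rw [← smul_self hg] at hle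
      exact pointwise_smul_le_pointwise_smul_iff.1 hle
    letI := conjFamily Q S hS
    have := Fintype.ofFinite {H : Subgroup G // S H}
    have h := sum_orbits (Q := Q) (fun _ : {H : Subgroup G // S H} => (1 : ZMod (p ^ 2))) (fun _ _ => rfl)
      fun x => by
        rw [stab_eq Q S hS x, mul_one]
        obtain ⟨j, hj⟩ := pow_of_relIndex hQ (normalizer (x.1 : Set G))
        have hx := x.2
        simp only [S, hF, Finset.mem_filter, mem_subs] at hx
        have hj2 : 2 ≤ j := by
          by_contra hlt
          rcases (show j = 0 ∨ j = 1 by omega) with rfl | rfl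
          · rw [pow_zero, relIndex_eq_one] at hj
            refine hx.1.2 ?_
            have hHp : IsPGroup p x.1 := IsPGroup.of_card hx.1.1
            obtain ⟨R, hR⟩ := (hQ.to_sup_of_normal_right' hHp hj).exists_le_sylow
            have hPR : P = R := Sylow.ext (P.3 R.2 (le_sup_left.trans hR)).symm
            exact le_sup_right.trans (hPR ▸ hR)
          · rw [pow_one] at hj; exact hx.2 hj
        show (((normalizer (x.1 : Set G)).relIndex Q : ℕ) : ZMod (p ^ 2)) = 0
        rw [hj, ZMod.natCast_eq_zero_iff]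
        exact pow_dvd_pow p hj2
    rw [Finset.sum_const, nsmul_one, Finset.card_univ, ← Nat.card_eq_fintype_card] at h
    rwa [Nat.subtype_card _ (fun x => Iff.rfl)] at h
  rw [Nat.cast_add, hlarge, add_zero]
  -- orbits of length `p`: fibre over the Sylow subgroups meeting `Q` in index `p`
  set B := F.filter (fun H : Subgroup G => (normalizer (H : Set G)).relIndex Q = p) with hB
  let f : Subgroup G → Subgroup G := fun H : Subgroup G => (normalizer (H : Set G) ⊓ Q) ⊔ H
  set T := (Set.toFinite {R : Subgroup G | Nat.card R = p ^ n ∧ R.relIndex Q = p}).toFinset with hT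
  have hTmem : ∀ {R : Subgroup G}, R ∈ T ↔ Nat.card R = p ^ n ∧ R.relIndex Q = p := by
    intro R; rw [hT, Set.Finite.mem_toFinset]; rfl
  have hM : ∀ H ∈ B, Nat.card H = p ^ a ∧ ¬ H ≤ Q ∧ (normalizer (H : Set G)).relIndex Q = p := by
    intro H hH
    simp only [hB, hF, Finset.mem_filter, mem_subs] at hH
    exact ⟨hH.1.1, hH.1.2, hH.2⟩
  have hcardM : ∀ K : Subgroup G, K.relIndex Q = p → Nat.card (K ⊓ Q : Subgroup G) * p = p ^ n := by
    intro K hK
    have h := ((K ⊓ Q).subgroupOf Q).card_mul_index
    rw [Nat.card_congr (subgroupOfEquivOfLe inf_le_right).toEquiv, hQn,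
      show ((K ⊓ Q).subgroupOf Q).index = K.relIndex Q from inf_relIndex_right K Q, hK] at h
    exact h
  have hf : ∀ H ∈ B, f H ∈ T := by
    intro H hH
    obtain ⟨hHc, hHQ, hHi⟩ := hM H hH
    have hgrp : IsPGroup p (f H) := ((hQ.to_le inf_le_right).to_sup_of_normal_right'
      (IsPGroup.of_card hHc) inf_le_left)
    obtain ⟨j, hj⟩ := IsPGroup.iff_card.1 hgrp
    have hlt : normalizer (H : Set G) ⊓ Q < f H := lt_of_le_of_ne le_sup_left fun h =>
      hHQ ((le_sup_right.trans h.ge).trans inf_le_right)
    have hjn : j = n := by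
      refine le_antisymm (hbig _ hgrp j hj) ?_
      have h1 := hcardM _ hHi
      have h2 : Nat.card (normalizer (H : Set G) ⊓ Q : Subgroup G) < Nat.card (f H) := by
        by_contra hh
        push Not at hh
        exact hlt.ne (eq_of_le_of_card_ge hlt.le hh)
      obtain ⟨i, hi⟩ := IsPGroup.iff_card.1 (hQ.to_le (inf_le_right : normalizer (H : Set G) ⊓ Q ≤ Q))
      rw [hi, ← pow_succ] at h1
      have := Nat.pow_right_injective hp.out.two_le h1
      rw [hi, hj] at h2
      have := (Nat.pow_lt_pow_iff_right hp.out.one_lt).1 h2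
      omega
    rw [hjn] at hj
    refine hTmem.2 ⟨hj, ?_⟩
    obtain ⟨i, hi⟩ := pow_of_relIndex hQ (f H)
    have hdvd : (f H).relIndex Q ∣ p := by
      rw [← hHi, ← inf_relIndex_right (f H), ← inf_relIndex_right (normalizer (H : Set G))]
      exact relIndex_dvd_of_le_left Q (le_inf le_sup_left inf_le_right)
    rcases (Nat.dvd_prime hp.out).1 hdvd with h | h
    · exfalso
      rw [relIndex_eq_one] at h
      have := eq_of_le_of_card_ge h (by rw [hj, hQn])
      exact hHQ (this ▸ le_sup_right)
    · exact h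
  rw [Finset.card_eq_sum_card_fiberwise (f := f) (t := T) hf, Nat.cast_sum]
  -- each fibre is divisible by `p`
  have hfib : ∀ R ∈ T, ((B.filter fun H => f H = R).card : ZMod p) = 0 := by
    intro R hR
    obtain ⟨hRc, hRi⟩ := hTmem.1 hR
    have hRp : IsPGroup p R := IsPGroup.of_card hRc
    set M := R ⊓ Q with hMdef
    have hMc : Nat.card M * p = p ^ n := hcardM R hRi
    have hMidxR : (M.subgroupOf R).index = p := by
      have h := (M.subgroupOf R).card_mul_index
      rw [Nat.card_congr (subgroupOfEquivOfLe inf_le_left).toEquiv, hRc, ← hMc] at h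
      exact Nat.eq_of_mul_eq_mul_left Nat.card_pos h
    have hMidxQ : (M.subgroupOf Q).index = p := by rw [← hRi]; exact inf_relIndex_right R Q
    have hMnR : R ≤ normalizer (M : Set G) :=
      (normal_subgroupOf_iff_le_normalizer inf_le_left).1 (max_facts hRp hMidxR).1
    have hMnQ : Q ≤ normalizer (M : Set G) :=
      (normal_subgroupOf_iff_le_normalizer inf_le_right).1 (max_facts hQ hMidxQ).1
    have hfibre : B.filter (fun H => f H = R) =
        ((subs p a G).filter fun H => H ≤ R ∧ ¬ H ≤ M).filter fun H : Subgroup G => R ≤ normalizer (H : Set G) := by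
      ext H
      simp only [Finset.mem_filter]
      constructor
      · rintro ⟨hHB, rfl⟩
        obtain ⟨hHc, hHQ, hHi⟩ := hM H hHB
        exact ⟨⟨mem_subs.2 hHc, le_sup_right, fun h => hHQ (h.trans inf_le_right)⟩,
          sup_le inf_le_left le_normalizer⟩
      · rintro ⟨⟨hHc, hHR, hHM⟩, hRn⟩
        have hHQ : ¬ H ≤ Q := fun h => hHM (le_inf hHR h)
        have hMle : M ≤ normalizer (H : Set G) ⊓ Q := le_inf (inf_le_left.trans hRn) inf_le_right
        have hHi : (normalizer (H : Set G)).relIndex Q = p := by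
          have hdvd : (normalizer (H : Set G)).relIndex Q ∣ p := by
            rw [← hMidxQ, ← inf_relIndex_right (normalizer (H : Set G))]
            exact relIndex_dvd_of_le_left Q hMle
          rcases (Nat.dvd_prime hp.out).1 hdvd with h | h
          · exfalso
            rw [relIndex_eq_one] at h
            have hHp : IsPGroup p H := IsPGroup.of_card (mem_subs.1 hHc)
            obtain ⟨S, hS⟩ := (hQ.to_sup_of_normal_right' hHp h).exists_le_sylow
            have hPS : P = S := Sylow.ext (P.3 S.2 (le_sup_left.trans hS)).symm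
            exact hHQ (le_sup_right.trans (hPS ▸ hS))
          · exact h
        have hHB : H ∈ B := by
          simp only [hB, hF, Finset.mem_filter]
          exact ⟨⟨hHc, hHQ⟩, hHi⟩
        refine ⟨hHB, ?_⟩
        have hfT := (hTmem.1 (hf H hHB)).1
        refine eq_of_le_of_card_ge (sup_le ?_ hHR) (by rw [hfT, hRc])
        have he : M = normalizer (H : Set G) ⊓ Q := eq_of_le_of_card_ge hMle
          (Nat.eq_of_mul_eq_mul_right hp.out.pos ((hcardM _ hHi).trans hMc.symm)).le
        rw [← he]; exact inf_le_left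
    rw [hfibre]
    let S : Subgroup G → Prop := fun H => H ∈ (subs p a G).filter fun H => H ≤ R ∧ ¬ H ≤ M
    have hS : ∀ g ∈ R, ∀ H, S H → S (MulAut.conj g • H) := by
      intro g hg H hH
      simp only [S, Finset.mem_filter, mem_subs] at hH ⊢
      refine ⟨by rw [card_smul_sub]; exact hH.1, ?_, fun hle => hH.2.2 ?_⟩
      · rw [← smul_self hg]
        exact pointwise_smul_le_pointwise_smul_iff.2 hH.2.1
      · rw [← (conj_smul_eq_iff g M).2 (hMnR hg)] at hle
        exact pointwise_smul_le_pointwise_smul_iff.1 hle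
    letI := conjFamily R S hS
    have hmod := hRp.card_modEq_card_fixedPoints {H : Subgroup G // S H}
    have e1 : Nat.card {H : Subgroup G // S H} = ((subs p a G).filter fun H => H ≤ R ∧ ¬ H ≤ M).card :=
      Nat.subtype_card _ fun x => Iff.rfl
    have e2 : Nat.card (MulAction.fixedPoints R {H : Subgroup G // S H}) =
        (((subs p a G).filter fun H => H ≤ R ∧ ¬ H ≤ M).filter fun H : Subgroup G => R ≤ normalizer (H : Set G)).card := by
      rw [← Fintype.card_coe, ← Nat.card_eq_fintype_card]
      refine Nat.card_congr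
        { toFun := fun x => ⟨x.1.1, Finset.mem_filter.2 ⟨x.1.2, fun g hg =>
            (conj_smul_eq_iff g x.1.1).1 (congrArg Subtype.val (x.2 ⟨g, hg⟩))⟩⟩
          invFun := fun y => ⟨⟨y.1, (Finset.mem_filter.1 y.2).1⟩, fun g => Subtype.ext
            ((conj_smul_eq_iff (g : G) y.1).2 ((Finset.mem_filter.1 y.2).2 g.2))⟩
          left_inv := fun x => rfl
          right_inv := fun y => rfl }
    rw [e1, e2] at hmod
    rw [← (ZMod.natCast_eq_natCast_iff _ _ p).2 hmod]
    obtain ⟨i, hi⟩ := IsPGroup.iff_card.1 (hQ.to_le (inf_le_right : M ≤ Q))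
    have hin : i + 1 = n := by
      rw [hi, ← pow_succ] at hMc
      exact Nat.pow_right_injective hp.out.two_le hMc
    have eR := frobenius n R hRc a han.le
    have eM := frobenius i M hi a (by omega)
    rw [← card_below] at eR eM
    have esum : ((subs p a G).filter fun H => H ≤ R).card =
        ((subs p a G).filter fun H => H ≤ R ∧ ¬ H ≤ M).card + ((subs p a G).filter fun H => H ≤ M).card := by
      rw [← Finset.card_union_of_disjoint (Finset.disjoint_filter.2 fun H _ h1 h2 => h1.2 h2)]
      congr 1
      ext H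
      simp only [Finset.mem_union, Finset.mem_filter]
      constructor
      · rintro ⟨h1, h2⟩; tauto
      · rintro (⟨h1, h2, -⟩ | ⟨h1, h2⟩)
        · exact ⟨h1, h2⟩
        · exact ⟨h1, h2.trans inf_le_left⟩
    rw [esum, Nat.cast_add, eM] at eR
    linear_combination eR
  -- group the fibres by orbits
  let ST : Subgroup G → Prop := fun R => R ∈ T
  have hST : ∀ g ∈ Q, ∀ R, ST R → ST (MulAut.conj g • R) := by
    intro g hg R hR
    obtain ⟨h1, h2⟩ := hTmem.1 hR
    refine hTmem.2 ⟨by rw [card_smul_sub, h1], ?_⟩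
    conv_lhs => rw [← smul_self hg]
    rw [relIndex_pointwise_smul, h2]
  letI := conjFamily Q ST hST
  have := Fintype.ofFinite {R : Subgroup G // ST R}
  have h := sum_orbits (Q := Q)
    (fun R : {R : Subgroup G // ST R} => ((B.filter fun H => f H = R.1).card : ZMod (p ^ 2)))
    (fun g R => ?_) (fun R => ?_)
  · rw [Finset.sum_subtype T (p := ST) (fun x => Iff.rfl)]
    exact h
  · congr 1
    refine Finset.card_bij' (fun H _ => MulAut.conj ((g : G))⁻¹ • H) (fun H _ => MulAut.conj (g : G) • H) ?_ ?_
      (fun H _ => by rw [map_inv, smul_inv_smul]) (fun H _ => by rw [map_inv, inv_smul_smul])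
    all_goals
      intro H hH
      simp only [Finset.mem_filter, hB, hF, mem_subs] at hH ⊢
      obtain ⟨⟨⟨h1, h2⟩, h3⟩, h4⟩ := hH
      have key : ∀ k ∈ Q, (Nat.card (MulAut.conj k • H : Subgroup G) = p ^ a ∧ ¬ MulAut.conj k • H ≤ Q) ∧
          (normalizer ((MulAut.conj k • H : Subgroup G) : Set G)).relIndex Q = p ∧
          f (MulAut.conj k • H) = MulAut.conj k • f H := by
        intro k hk
        refine ⟨⟨by rw [card_smul_sub, h1], fun hle => h2 ?_⟩, by rw [hinv k hk, h3], ?_⟩
        · rw [← smul_self hk] at hle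
          exact pointwise_smul_le_pointwise_smul_iff.1 hle
        · simp only [f]
          rw [normalizer_smul, smul_sup, smul_inf, smul_self hk]
    · obtain ⟨k1, k2, k3⟩ := key _ (inv_mem g.2)
      refine ⟨⟨k1, k2⟩, ?_⟩
      rw [k3, h4, map_inv]
      exact inv_smul_smul _ _
    · obtain ⟨k1, k2, k3⟩ := key _ g.2
      refine ⟨⟨k1, k2⟩, ?_⟩
      rw [k3, h4]
      rfl
  · rw [stab_eq Q ST hST R]
    obtain ⟨h1, h2⟩ := hTmem.1 R.2
    obtain ⟨j, hj⟩ := pow_of_relIndex hQ (normalizer (R.1 : Set G))
    have hj1 : j ≠ 0 := by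
      rintro rfl
      rw [pow_zero, relIndex_eq_one] at hj
      have hRp : IsPGroup p R.1 := IsPGroup.of_card h1
      obtain ⟨S, hS⟩ := (hQ.to_sup_of_normal_right' hRp hj).exists_le_sylow
      have hPS : P = S := Sylow.ext (P.3 S.2 (le_sup_left.trans hS)).symm
      have hle : R.1 ≤ Q := le_sup_right.trans (hPS ▸ hS)
      rw [eq_of_le_of_card_ge hle (by rw [h1, hQn]), relIndex_self] at h2
      exact hp.out.ne_one h2.symm
    show (((normalizer (R.1 : Set G)).relIndex Q : ℕ) : ZMod (p ^ 2)) * _ = 0
    obtain ⟨i, rfl⟩ : ∃ i, j = i + 1 := ⟨j - 1, by omega⟩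
    rw [hj, Nat.cast_pow, pow_succ (p : ZMod (p ^ 2)) i, mul_assoc, pMod (b := 0) (by simpa using hfib R.1 R.2)]
    simp

end Cfsg.Agent.SubgroupCount
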