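import Mathlib

/-!
Counting the subgroups of a given order in a finite p-group through its maximal subgroups:
congruences modulo `p` and `p ^ 2`.
-/

set_option autoImplicit false

namespace Cfsg.Agent.SubgroupCount

open Subgroup
open scoped Classical commutatorElement

universe u

variable {p : ℕ} [hp : Fact p.Prime]

/-- The subgroups of index `p`. -/
noncomputable def maxs (p : ℕ) (X : Type*) [Group X] [Finite X] : Finset (Subgroup X) :=
  (Set.toFinite {M : Subgroup X | M.index = p}).toFinset

/-- The subgroups of order `p ^ k`. -/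
noncomputable def subs (p k : ℕ) (X : Type*) [Group X] [Finite X] : Finset (Subgroup X) :=
  (Set.toFinite {H : Subgroup X | Nat.card H = p ^ k}).toFinset

variable {X : Type u} [Group X] [Finite X]

/-- The subgroups of index `p` containing a given subgroup. -/
noncomputable def ovr (p : ℕ) (H : Subgroup X) : Finset (Subgroup X) :=
  (maxs p X).filter fun M => H ≤ M

/-- The meet of the subgroups of index `p`. -/
noncomputable def fr (p : ℕ) (X : Type*) [Group X] : Subgroup X :=
  sInf {M : Subgroup X | M.index = p}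

omit hp in
theorem mem_maxs {M : Subgroup X} : M ∈ maxs p X ↔ M.index = p := by simp [maxs]

omit hp in
theorem mem_subs {k : ℕ} {H : Subgroup X} : H ∈ subs p k X ↔ Nat.card H = p ^ k := by simp [subs]

omit hp in
theorem mem_over {H M : Subgroup X} : M ∈ ovr p H ↔ M.index = p ∧ H ≤ M := by
  simp [ovr, mem_maxs]

omit hp [Finite X] in
theorem fr_le {M : Subgroup X} (hM : M.index = p) : fr p X ≤ M := sInf_le hM

theorem max_facts (hX : IsPGroup p X) {M : Subgroup X} (hM : M.index = p) :
    M.Normal ∧ (∀ x : X, x ^ p ∈ M) ∧ ∀ x y : X, ⁅x, y⁆ ∈ M := by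
  obtain ⟨n, hn⟩ := IsPGroup.iff_card.mp hX
  have hn0 : n ≠ 0 := by
    rintro rfl
    have := M.index_dvd_card
    rw [hM, hn, pow_zero, Nat.dvd_one] at this
    exact hp.out.ne_one this
  have : M.Normal := normal_of_index_eq_minFac_card (by
    rw [hM, hn, Nat.pow_minFac hn0, hp.out.minFac_eq])
  have hc : Nat.card (X ⧸ M) = p := hM
  refine ⟨this, fun x => ?_, fun x y => ?_⟩
  · rw [← QuotientGroup.eq_one_iff, QuotientGroup.mk_pow, ← hc, pow_card_eq_one']
  · have : IsCyclic (X ⧸ M) := isCyclic_of_prime_card hc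
    rw [← QuotientGroup.eq_one_iff, ← QuotientGroup.mk'_apply, map_commutatorElement,
      commutatorElement_eq_one_iff_mul_comm]
    exact (IsCyclic.commGroup (α := X ⧸ M)).mul_comm _ _

theorem pow_mem_fr (hX : IsPGroup p X) (x : X) : x ^ p ∈ fr p X :=
  mem_sInf.2 fun _ hM => (max_facts hX hM).2.1 x

theorem comm_mem_fr (hX : IsPGroup p X) (x y : X) : ⁅x, y⁆ ∈ fr p X :=
  mem_sInf.2 fun _ hM => (max_facts hX hM).2.2 x y

theorem exists_card_pow_of_subgroup (hX : IsPGroup p X) (H : Subgroup X) :
    ∃ j, Nat.card H = p ^ j := IsPGroup.iff_card.mp (hX.to_subgroup H)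

theorem exists_max (hX : IsPGroup p X) {H : Subgroup X} (hH : H ≠ ⊤) : (ovr p H).Nonempty := by
  obtain ⟨m, hm⟩ := IsPGroup.iff_card.mp hX
  obtain ⟨j, hj⟩ := exists_card_pow_of_subgroup hX H
  have hjm : j < m := by
    by_contra h
    push Not at h
    exact hH (eq_top_of_le_card H (by rw [hj, hm]; exact Nat.pow_le_pow_right hp.out.pos h))
  obtain ⟨K, hK, hHK⟩ := Sylow.exists_subgroup_card_pow_prime_le p (n := j) (m := m - 1)
    (hm ▸ pow_dvd_pow p (Nat.sub_le m 1)) H hj (by omega)
  refine ⟨K, mem_over.2 ⟨?_, hHK⟩⟩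
  have h := K.card_mul_index
  rw [hK, hm] at h
  have hpow : p ^ (m - 1) * p = p ^ m := by rw [← pow_succ]; congr 1; omega
  exact Nat.eq_of_mul_eq_mul_left (pow_pos hp.out.pos _) (h.trans hpow.symm)

theorem max_ne_top {M : Subgroup X} (hM : M.index = p) : M ≠ ⊤ := fun h => by
  rw [h, index_top] at hM
  exact hp.out.ne_one hM.symm

theorem max_eq_of_le {M N : Subgroup X} (hM : M.index = p) (hN : N.index = p) (h : M ≤ N) : M = N := by
  refine eq_of_le_of_card_ge h ?_
  have h1 := M.card_mul_index
  have h2 := N.card_mul_index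
  rw [hM] at h1
  rw [hN, ← h1] at h2
  exact (Nat.eq_of_mul_eq_mul_right hp.out.pos h2).le

theorem inf_index (hX : IsPGroup p X) {M N : Subgroup X} (hM : M.index = p) (hN : N.index = p)
    (hne : M ≠ N) : (M ⊓ N).index = p ^ 2 := by
  have : N.Normal := (max_facts hX hN).1
  have hsup : M ⊔ N = ⊤ := by
    have hd : (M ⊔ N).index ∣ p := hN ▸ index_dvd_of_le le_sup_right
    rcases (Nat.dvd_prime hp.out).1 hd with h | h
    · exact index_eq_one.1 h
    · exact absurd (max_eq_of_le hM hN (le_sup_left.trans (max_eq_of_le hN h le_sup_right).ge)) hne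
  have h2 : N.relIndex M = p := by
    rw [← relIndex_sup_right]
    first
      | rw [hsup, relIndex_top_right, hN]
      | rw [sup_comm, hsup, relIndex_top_right, hN]
  rw [← relIndex_mul_index (inf_le_left : M ⊓ N ≤ M), inf_comm, inf_relIndex_right, h2, hM, pow_two]

/-- Over a subgroup of index `p ^ 2` with elementary abelian quotient lie `p + 1` maximal subgroups. -/
theorem card_over_plane (hX : IsPGroup p X) {D : Subgroup X} (hD : D.index = p ^ 2)
    (hfr : fr p X ≤ D) : (ovr p D).card = p + 1 := by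
  have : Fintype X := Fintype.ofFinite X
  have hDn : D.Normal := ⟨fun n hn g => by
    rw [show g * n * g⁻¹ = ⁅g, n⁆ * n by rw [commutatorElement_def]; group]
    exact D.mul_mem (hfr (comm_mem_fr hX g n)) hn⟩
  have hgen : ∀ x, x ∉ D → (D ⊔ zpowers x).index = p := by
    intro x hx
    set π := QuotientGroup.mk' D
    have hmap : (D ⊔ zpowers x).map π = zpowers (π x) := by
      rw [Subgroup.map_sup, MonoidHom.map_zpowers, (map_eq_bot_iff D).2 (by rw [QuotientGroup.ker_mk']), bot_sup_eq]
    have hidx : ((D ⊔ zpowers x).map π).index = (D ⊔ zpowers x).index :=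
      index_map_eq _ (QuotientGroup.mk'_surjective D) (by rw [QuotientGroup.ker_mk']; exact le_sup_left)
    have hord : orderOf (π x) = p := orderOf_eq_prime
      (by rw [← map_pow]; exact (QuotientGroup.eq_one_iff _).2 (hfr (pow_mem_fr hX x)))
      (fun h => hx ((QuotientGroup.eq_one_iff _).1 h))
    have h := ((D ⊔ zpowers x).map π).card_mul_index
    rw [hidx, hmap, Nat.card_zpowers, hord, show Nat.card (X ⧸ D) = p ^ 2 from hD, pow_two] at h
    exact Nat.eq_of_mul_eq_mul_left hp.out.pos h
  have hcard : ∀ M ∈ ovr p D,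
      ((Finset.univ.filter fun x : X => x ∉ D ∧ x ∈ M)).card = (p - 1) * Nat.card D := by
    intro M hM
    obtain ⟨hMp, hDM⟩ := mem_over.1 hM
    have h1 : Nat.card M = p * Nat.card D := by
      have e1 := M.card_mul_index
      have e2 := D.card_mul_index
      rw [hMp] at e1
      rw [hD, pow_two, ← e1, ← mul_assoc] at e2
      rw [← Nat.eq_of_mul_eq_mul_right hp.out.pos e2, mul_comm]
    have e : (Finset.univ.filter fun x : X => x ∉ D ∧ x ∈ M) =
        (Finset.univ.filter fun x : X => x ∈ M) \ (Finset.univ.filter fun x : X => x ∈ D) := by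
      ext x; simp [and_comm]
    rw [e, Finset.card_sdiff_of_subset (fun x hx => by simp at hx ⊢; exact hDM hx), Nat.sub_mul, one_mul,
      ← h1]
    simp [Nat.card_eq_fintype_card, Fintype.card_subtype]
  have hpart : (Finset.univ.filter fun x : X => x ∉ D).card =
      ∑ M ∈ ovr p D, (Finset.univ.filter fun x : X => x ∉ D ∧ x ∈ M).card := by
    rw [← Finset.card_biUnion]
    · congr 1
      ext x
      simp only [Finset.mem_filter, Finset.mem_univ, true_and, Finset.mem_biUnion]
      exact ⟨fun hx => ⟨_, mem_over.2 ⟨hgen x hx, le_sup_left⟩, hx,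
        le_sup_right (a := D) (mem_zpowers x)⟩, fun ⟨_, _, hx, _⟩ => hx⟩
    · intro M hM N hN hne
      rw [Function.onFun, Finset.disjoint_left]
      intro x hxM hxN
      simp only [Finset.mem_filter, Finset.mem_univ, true_and] at hxM hxN
      obtain ⟨hMp, hDM⟩ := mem_over.1 hM
      obtain ⟨hNp, hDN⟩ := mem_over.1 hN
      refine hne ?_
      rw [← max_eq_of_le (hgen x hxM.1) hMp (sup_le hDM (zpowers_le.2 hxM.2)),
        max_eq_of_le (hgen x hxM.1) hNp (sup_le hDN (zpowers_le.2 hxN.2))]
  have htot : (Finset.univ.filter fun x : X => x ∉ D).card + Nat.card D = p ^ 2 * Nat.card D := by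
    rw [← hD, mul_comm, D.card_mul_index, Nat.card_eq_fintype_card (α := X), ← Finset.card_univ,
      Nat.card_eq_fintype_card, Fintype.card_subtype, add_comm]
    exact Finset.card_filter_add_card_filter_not _
  rw [hpart, Finset.sum_congr rfl hcard, Finset.sum_const, smul_eq_mul] at htot
  obtain ⟨q, hq⟩ : ∃ q, p = q + 1 := ⟨p - 1, by have := hp.out.pos; omega⟩
  have hq0 : 0 < q := by have := hp.out.two_le; omega
  rw [hq] at htot
  simp only [Nat.add_sub_cancel] at htot
  rw [hq]
  have hmul : ((ovr (q + 1) D).card) * (q * Nat.card D) = (q + 2) * (q * Nat.card D) := by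
    nlinarith [htot]
  exact Nat.eq_of_mul_eq_mul_right (Nat.mul_pos hq0 Nat.card_pos) hmul

omit hp in
/-- Subgroups of `M` of index `p` ovr `L` are subgroups of index `p ^ 2` between `L` and `M`. -/
theorem card_between {M L : Subgroup X} (hM : M.index = p) (hp0 : 0 < p) (hL : L ≤ M) :
    ((Set.toFinite {D : Subgroup X | D.index = p ^ 2 ∧ L ≤ D ∧ D ≤ M}).toFinset).card =
      (ovr p (L.subgroupOf M)).card := by
  refine Finset.card_bij' (fun D _ => D.subgroupOf M) (fun E _ => E.map M.subtype) ?_ ?_ ?_ ?_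
  · intro D hD
    simp only [Set.Finite.mem_toFinset, Set.mem_setOf_eq] at hD
    refine mem_over.2 ⟨?_, fun x hx => hD.2.1 hx⟩
    have h := relIndex_mul_index hD.2.2
    rw [hM, hD.1, pow_two] at h
    exact Nat.eq_of_mul_eq_mul_right hp0 h
  · intro E hE
    obtain ⟨hEp, hLE⟩ := mem_over.1 hE
    simp only [Set.Finite.mem_toFinset, Set.mem_setOf_eq]
    refine ⟨?_, fun x hx => ⟨⟨x, hL hx⟩, hLE hx, rfl⟩, map_subtype_le E⟩
    rw [← relIndex_mul_index (map_subtype_le E), hM, relIndex, subgroupOf,
      comap_map_eq_self_of_injective M.subtype_injective, hEp, pow_two]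
  · intro D hD
    simp only [Set.Finite.mem_toFinset, Set.mem_setOf_eq] at hD
    exact map_subgroupOf_eq_of_le hD.2.2
  · intro E _
    exact comap_map_eq_self_of_injective M.subtype_injective E

theorem pMod {a b : ℕ} (h : (a : ZMod p) = b) :
    (p : ZMod (p ^ 2)) * a = (p : ZMod (p ^ 2)) * b := by
  rw [← Nat.cast_mul, ← Nat.cast_mul, ZMod.natCast_eq_natCast_iff, pow_two]
  exact ((ZMod.natCast_eq_natCast_iff a b p).1 h).mul_left' p

theorem card_over (N : ℕ) : ∀ (X : Type u) [Group X] [Finite X], Nat.card X ≤ N → IsPGroup p X →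
    ∀ H : Subgroup X, H ≠ ⊤ →
      ((ovr p H).card = 1 ∨ ∃ d : ℕ, (d : ZMod p) = 1 ∧ (ovr p H).card = 1 + p * d) := by
  induction N with
  | zero => intro X _ _ h; have := Nat.card_pos (α := X); omega
  | succ N ih =>
    intro X _ _ hN hX H hH
    obtain ⟨M₁, hM₁⟩ := exists_max hX hH
    obtain ⟨hM₁p, hHM₁⟩ := mem_over.1 hM₁
    by_cases h1 : (ovr p H).card = 1
    · exact Or.inl h1
    right
    set L := H ⊔ fr p X
    have hLM : L ≤ M₁ := sup_le hHM₁ (fr_le hM₁p)
    set T := (Set.toFinite {D : Subgroup X | D.index = p ^ 2 ∧ L ≤ D ∧ D ≤ M₁}).toFinset with hT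
    have hfib : ((ovr p H).erase M₁).card = T.card * p := by
      rw [Finset.card_eq_sum_card_fiberwise (f := fun M => M ⊓ M₁) (t := T)]
      · rw [Finset.sum_congr rfl (g := fun _ => p), Finset.sum_const, smul_eq_mul]
        intro D hD
        simp only [hT, Set.Finite.mem_toFinset, Set.mem_setOf_eq] at hD
        have e : ((ovr p H).erase M₁).filter (fun M => M ⊓ M₁ = D) = (ovr p D).erase M₁ := by
          ext M
          simp only [Finset.mem_filter, Finset.mem_erase, mem_over]
          constructor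
          · rintro ⟨⟨hne, hMp, -⟩, rfl⟩
            exact ⟨hne, hMp, inf_le_left⟩
          · rintro ⟨hne, hMp, hDM⟩
            refine ⟨⟨hne, hMp, (le_sup_left.trans hD.2.1).trans hDM⟩, ?_⟩
            refine (eq_of_le_of_card_ge (le_inf hDM hD.2.2) ?_).symm
            have e1 := D.card_mul_index
            have e2 := (M ⊓ M₁).card_mul_index
            rw [hD.1] at e1
            rw [inf_index hX hMp hM₁p hne, ← e1] at e2
            exact (Nat.eq_of_mul_eq_mul_right (pow_pos hp.out.pos 2) e2).le
        rw [e, Finset.card_erase_of_mem (mem_over.2 ⟨hM₁p, hD.2.2⟩),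
          card_over_plane hX hD.1 (le_sup_right.trans hD.2.1)]
        rfl
      · intro M hM
        simp only [Finset.mem_coe, Finset.mem_erase, mem_over] at hM
        simp only [hT, Finset.mem_coe, Set.Finite.mem_toFinset, Set.mem_setOf_eq]
        exact ⟨inf_index hX hM.2.1 hM₁p hM.1, le_inf (sup_le hM.2.2 (fr_le hM.2.1)) hLM, inf_le_right⟩
    have hne : L.subgroupOf M₁ ≠ ⊤ := by
      intro htop
      have hge : M₁ ≤ L := subgroupOf_eq_top.1 htop
      refine h1 (Finset.card_eq_one.2 ⟨M₁, Finset.eq_singleton_iff_unique_mem.2 ⟨hM₁, fun M hM => ?_⟩⟩)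
      obtain ⟨hMp, hHM⟩ := mem_over.1 hM
      exact (max_eq_of_le hM₁p hMp (hge.trans (sup_le hHM (fr_le hMp)))).symm
    have hlt : Nat.card M₁ ≤ N := by
      have h := M₁.card_mul_index
      rw [hM₁p] at h
      have := Nat.card_pos (α := M₁)
      have := hp.out.two_le
      nlinarith
    refine ⟨T.card, ?_, ?_⟩
    · rw [hT, card_between hM₁p hp.out.pos hLM]
      rcases ih M₁ hlt (hX.to_subgroup M₁) _ hne with h | ⟨d, -, h⟩ <;> rw [h] <;> simp
    · rw [← Finset.card_erase_add_one hM₁, hfib, add_comm, mul_comm]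

theorem over_cast (hX : IsPGroup p X) {H : Subgroup X} (hH : H ≠ ⊤) :
    ((ovr p H).card : ZMod p) = 1 := by
  rcases card_over _ X le_rfl hX H hH with h | ⟨d, -, h⟩ <;> rw [h] <;> simp

theorem over_cast_sq (hX : IsPGroup p X) {H : Subgroup X} (hH : H ≠ ⊤) :
    ((ovr p H).card : ZMod (p ^ 2)) + (p : ZMod (p ^ 2)) * (if (ovr p H).card = 1 then 1 else 0) =
      1 + p := by
  rcases card_over _ X le_rfl hX H hH with h | ⟨d, hd, h⟩
  · rw [if_pos h, h]; simp
  · rw [if_neg]
    · rw [h, mul_zero, add_zero, Nat.cast_add, Nat.cast_mul, Nat.cast_one,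
        pMod (b := 1) (by simpa using hd)]
      simp
    · rw [h]
      intro h0
      rcases Nat.mul_eq_zero.1 (by omega : p * d = 0) with h' | h'
      · exact hp.out.ne_zero h'
      · rw [h'] at hd; simp at hd

omit hp in
/-- Subgroups inside `M`. -/
theorem card_below (M : Subgroup X) (k : ℕ) :
    ((subs p k X).filter (fun H => H ≤ M)).card = (subs p k M).card := by
  refine Finset.card_bij' (fun H _ => H.subgroupOf M) (fun K _ => K.map M.subtype) ?_ ?_ ?_ ?_
  · intro H hH
    simp only [Finset.mem_filter, mem_subs] at hH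
    rw [mem_subs, Nat.card_congr (subgroupOfEquivOfLe hH.2).toEquiv]
    exact hH.1
  · intro K hK
    rw [mem_subs] at hK
    simp only [Finset.mem_filter, mem_subs]
    exact ⟨by rw [card_map_of_injective M.subtype_injective, hK], map_subtype_le K⟩
  · intro H hH
    exact map_subgroupOf_eq_of_le (Finset.mem_filter.1 hH).2
  · intro K _
    exact comap_map_eq_self_of_injective M.subtype_injective K

omit hp in
theorem double_count (S : Finset (Subgroup X)) (k : ℕ) :
    ∑ M ∈ S, (subs p k M).card = ∑ H ∈ subs p k X, (S.filter (fun M => H ≤ M)).card := by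
  simp only [← card_below, Finset.card_filter]
  exact Finset.sum_comm

theorem subs_ne_top {m k : ℕ} (hm : Nat.card X = p ^ m) (hk : k < m) {H : Subgroup X}
    (hH : H ∈ subs p k X) : H ≠ ⊤ := by
  rintro rfl
  rw [mem_subs, card_top, hm] at hH
  exact absurd (Nat.pow_right_injective hp.out.two_le hH) (by omega)

theorem card_of_max {m : ℕ} (hm : Nat.card X = p ^ m) {M : Subgroup X} (hM : M.index = p) :
    1 ≤ m ∧ Nat.card M = p ^ (m - 1) := by
  have hm1 : 1 ≤ m := by
    by_contra h
    have h1 := M.index_dvd_card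
    rw [hM, hm, show m = 0 by omega, pow_zero, Nat.dvd_one] at h1
    exact hp.out.ne_one h1
  refine ⟨hm1, ?_⟩
  have h := M.card_mul_index
  rw [hM, hm, show p ^ m = p ^ (m - 1) * p by rw [← pow_succ]; congr 1; omega] at h
  exact Nat.eq_of_mul_eq_mul_right hp.out.pos h

/-- The number of subgroups of a given order is congruent to one modulo `p`. -/
theorem frobenius (m : ℕ) : ∀ (X : Type u) [Group X] [Finite X], Nat.card X = p ^ m →
    ∀ k ≤ m, ((subs p k X).card : ZMod p) = 1 := by
  induction m with
  | zero =>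
    intro X _ _ hm k hk
    obtain rfl : k = 0 := by omega
    rw [show subs p 0 X = {⊥} by
      ext H; simp [mem_subs, Subgroup.card_eq_one]]
    simp
  | succ m ih =>
    intro X _ _ hm k hk
    rcases Nat.lt_or_ge k (m + 1) with hlt | hge
    swap
    · obtain rfl : k = m + 1 := by omega
      rw [show subs p (m + 1) X = {⊤} by
        ext H
        rw [mem_subs, Finset.mem_singleton, ← hm]
        exact ⟨fun h => eq_top_of_card_eq H h, fun h => by rw [h, card_top]⟩]
      simp
    have hX : IsPGroup p X := IsPGroup.of_card hm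
    have h := congrArg (fun n : ℕ => (n : ZMod p)) (double_count (p := p) (maxs p X) k)
    simp only [Nat.cast_sum] at h
    have hA : ∀ M ∈ maxs p X, ((subs p k M).card : ZMod p) = 1 := fun M hM =>
      ih M (by rw [(card_of_max hm (mem_maxs.1 hM)).2]; rfl) k (by omega)
    have hB : ∀ H ∈ subs p k X, (((maxs p X).filter (fun M => H ≤ M)).card : ZMod p) = 1 :=
      fun H hH => over_cast hX (subs_ne_top hm hlt hH)
    rw [Finset.sum_congr rfl hA, Finset.sum_congr rfl hB,
      Finset.sum_const, Finset.sum_const, nsmul_one, nsmul_one] at h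
    rw [← h, show maxs p X = ovr p (⊥ : Subgroup X) by ext M; simp [mem_over, mem_maxs]]
    refine over_cast hX fun hb => ?_
    have := congrArg (fun H : Subgroup X => Nat.card H) hb
    simp only [card_bot, card_top, hm] at this
    exact absurd this (Nat.one_lt_pow (by omega) hp.out.one_lt).ne

/-- A subgroup `H ≤ M` with `H ⊔ Φ = M` lies in one maximal subgroup only, and conversely. -/
theorem over_singleton (hX : IsPGroup p X) {M H : Subgroup X} (hM : M.index = p) (hH : H ≤ M) :
    ovr p H = {M} ↔ H ⊔ fr p X = M := by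
  constructor
  · intro h
    by_contra hne
    have hLM : H ⊔ fr p X ≤ M := sup_le hH (fr_le hM)
    obtain ⟨E, hE⟩ := exists_max (hX.to_subgroup M) (H := (H ⊔ fr p X).subgroupOf M)
      fun htop => hne (le_antisymm hLM (subgroupOf_eq_top.1 htop))
    have h1 : 0 < ((Set.toFinite {D : Subgroup X | D.index = p ^ 2 ∧ H ⊔ fr p X ≤ D ∧ D ≤ M}).toFinset).card := by
      rw [card_between hM hp.out.pos hLM]
      exact Finset.card_pos.2 ⟨E, hE⟩
    obtain ⟨D, hD⟩ := Finset.card_pos.1 h1
    simp only [Set.Finite.mem_toFinset, Set.mem_setOf_eq] at hD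
    have h2 : ovr p D ⊆ ovr p H := fun N hN => by
      obtain ⟨hN1, hN2⟩ := mem_over.1 hN
      exact mem_over.2 ⟨hN1, (le_sup_left.trans hD.2.1).trans hN2⟩
    have := Finset.card_le_card h2
    rw [card_over_plane hX hD.1 (le_sup_right.trans hD.2.1), h, Finset.card_singleton] at this
    have := hp.out.pos
    omega
  · intro h
    refine Finset.eq_singleton_iff_unique_mem.2 ⟨mem_over.2 ⟨hM, hH⟩, fun N hN => ?_⟩
    obtain ⟨hN1, hN2⟩ := mem_over.1 hN
    exact (max_eq_of_le hM hN1 (h ▸ sup_le hN2 (fr_le hN1))).symm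

/-- The recursion modulo `p ^ 2` through the maximal subgroups. -/
theorem recursion {m k : ℕ} (hm : Nat.card X = p ^ m) (hk : k + 2 ≤ m)
    (h2 : ∀ M ∈ maxs p X, ¬ M ≤ fr p X) :
    ∑ M ∈ maxs p X, ((subs p k M).card : ZMod (p ^ 2)) = (subs p k X).card + p := by
  have hX : IsPGroup p X := IsPGroup.of_card hm
  have hfib : ∀ M ∈ maxs p X, (((subs p k X).filter (fun H => ovr p H = {M})).card : ZMod p) = 0 := by
    intro M hM
    have hMp := mem_maxs.1 hM
    obtain ⟨hm1, hMc⟩ := card_of_max hm hMp
    set T := (Set.toFinite {D : Subgroup X | D.index = p ^ 2 ∧ fr p X ≤ D ∧ D ≤ M}).toFinset with hT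
    set B := (subs p k X).filter (fun H => H ≤ M) with hB
    have e1 : (T.card : ZMod p) = 1 := by
      rw [hT, card_between hMp hp.out.pos (fr_le hMp)]
      exact over_cast (hX.to_subgroup M) fun htop => h2 M hM (subgroupOf_eq_top.1 htop)
    have e2 : ∑ D ∈ T, ((subs p k D).card : ZMod p) = 1 := by
      rw [Finset.sum_congr rfl (g := fun _ => (1 : ZMod p)), Finset.sum_const, nsmul_one, e1]
      intro D hD
      simp only [hT, Set.Finite.mem_toFinset, Set.mem_setOf_eq] at hD
      refine frobenius (m - 2) D ?_ k (by omega)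
      have h := D.card_mul_index
      rw [hD.1, hm, show p ^ m = p ^ (m - 2) * p ^ 2 by rw [← pow_add]; congr 1; omega] at h
      exact Nat.eq_of_mul_eq_mul_right (pow_pos hp.out.pos 2) h
    rw [← Nat.cast_sum, double_count] at e2
    push_cast at e2
    have e3 : ∀ H ∈ subs p k X, ((T.filter (fun D => H ≤ D)).card : ZMod p) =
        if H ≤ M ∧ ¬ ovr p H = {M} then 1 else 0 := by
      intro H hH
      by_cases hHM : H ≤ M
      · have e : T.filter (fun D => H ≤ D) =
            (Set.toFinite {D : Subgroup X | D.index = p ^ 2 ∧ H ⊔ fr p X ≤ D ∧ D ≤ M}).toFinset := by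
          ext D
          simp only [hT, Finset.mem_filter, Set.Finite.mem_toFinset, Set.mem_setOf_eq, sup_le_iff]
          tauto
        rw [e, card_between hMp hp.out.pos (sup_le hHM (fr_le hMp))]
        by_cases hs : H ⊔ fr p X = M
        · rw [if_neg (fun h => h.2 ((over_singleton hX hMp hHM).2 hs))]
          have : ovr p ((H ⊔ fr p X).subgroupOf M) = ∅ := by
            rw [Finset.eq_empty_iff_forall_notMem]
            intro E hE
            obtain ⟨hE1, hE2⟩ := mem_over.1 hE
            rw [hs, subgroupOf_self] at hE2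
            exact max_ne_top hE1 (top_le_iff.1 hE2)
          rw [this]; simp
        · rw [if_pos ⟨hHM, fun h => hs ((over_singleton hX hMp hHM).1 h)⟩]
          exact over_cast (hX.to_subgroup M) fun htop =>
            hs (le_antisymm (sup_le hHM (fr_le hMp)) (subgroupOf_eq_top.1 htop))
      · rw [if_neg (fun h => hHM h.1), Finset.card_eq_zero.2 (Finset.filter_eq_empty_iff.2
          fun D hD hHD => hHM (hHD.trans (((Set.Finite.mem_toFinset _).1 (hT ▸ hD)).2.2))), Nat.cast_zero]
    rw [Finset.sum_congr rfl e3, Finset.sum_boole] at e2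
    have e4 := frobenius (m - 1) M hMc k (by omega)
    rw [← card_below] at e4
    have e5 : ((subs p k X).filter (fun H => H ≤ M)).card =
        ((subs p k X).filter (fun H => H ≤ M ∧ ¬ ovr p H = {M})).card +
        ((subs p k X).filter (fun H => ovr p H = {M})).card := by
      rw [← Finset.card_union_of_disjoint]
      · congr 1
        ext H
        simp only [Finset.mem_union, Finset.mem_filter]
        constructor
        · rintro ⟨h1, h2⟩; tauto
        · rintro (⟨h1, h2, -⟩ | ⟨h1, h2⟩)
          · exact ⟨h1, h2⟩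
          · exact ⟨h1, (mem_over.1 (h2 ▸ Finset.mem_singleton_self M : M ∈ ovr p H)).2⟩
      · rw [Finset.disjoint_filter]
        intro H _ h1 h2
        exact h1.2 h2
    rw [e5, Nat.cast_add, e2] at e4
    linear_combination e4
  have hsum : ∀ H ∈ subs p k X, ((ovr p H).card : ZMod (p ^ 2)) + (p : ZMod (p ^ 2)) *
      ∑ M ∈ maxs p X, (if ovr p H = {M} then 1 else 0) = 1 + p := by
    intro H hH
    rw [← over_cast_sq hX (subs_ne_top hm (show k < m by omega) hH)]
    congr 2
    by_cases h1 : (ovr p H).card = 1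
    · obtain ⟨M, hM⟩ := Finset.card_eq_one.1 h1
      rw [if_pos h1, Finset.sum_eq_single M]
      · rw [if_pos hM]
      · intro N _ hne; rw [if_neg]; rw [hM, Finset.singleton_inj]; exact fun h => hne h.symm
      · intro h
        exact absurd (mem_maxs.2 (mem_over.1 (hM ▸ Finset.mem_singleton_self M : M ∈ ovr p H)).1) h
    · rw [if_neg h1, Finset.sum_eq_zero]
      intro N _
      rw [if_neg]
      intro h
      exact h1 (by rw [h, Finset.card_singleton])
  have key := Finset.sum_congr rfl hsum
  rw [Finset.sum_add_distrib, ← Finset.mul_sum, Finset.sum_comm, Finset.sum_const, nsmul_eq_mul] at key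
  have h0 : (p : ZMod (p ^ 2)) * ∑ M ∈ maxs p X,
      ∑ H ∈ subs p k X, (if ovr p H = {M} then (1 : ZMod (p ^ 2)) else 0) = 0 := by
    rw [Finset.mul_sum]
    refine Finset.sum_eq_zero fun M hM => ?_
    rw [Finset.sum_boole, pMod (b := 0) (by simpa using hfib M hM)]
    simp
  rw [h0, add_zero, ← Nat.cast_sum] at key
  simp only [ovr] at key
  rw [← double_count, Nat.cast_sum] at key
  rw [key, mul_add, mul_one, mul_comm _ (p : ZMod (p ^ 2)), pMod (b := 1) (by
    simpa using frobenius m X hm k (by omega))]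
  simp

end Cfsg.Agent.SubgroupCount
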