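import Cfsg.Agent.SubgroupCount.MaxClassFacts
import Cfsg.Agent.MaxClass.CyclicNormal
import Cfsg.Agent.Fusion.RankTwo
import Cfsg.Agent.Invol.UniqueInvolution

/-!
Which maximal subgroups of a p-group are cyclic or of maximal class: those not containing one fixed
normal subgroup.
-/

set_option autoImplicit false

namespace Cfsg.Agent.SubgroupCount

open Subgroup Cfsg.Agent.MaxClass
open scoped Classical commutatorElement

universe u

variable {p : ℕ} [hp : Fact p.Prime] {X : Type u} [Group X] [Finite X]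

/-- A non-cyclic p-group, not a 2-group of maximal class, has a normal `E_{p²}`. -/
theorem exists_plane (hX : IsPGroup p X) (hnc : ¬ IsCyclic X) (hmc : p = 2 → ¬ MC X) :
    ∃ E : Subgroup X, E.Normal ∧ Nat.card E = p ^ 2 ∧ ∀ e ∈ E, e ^ p = 1 := by
  rcases eq_or_ne p 2 with rfl | hodd
  swap
  · obtain ⟨E, hE, hEe, hEc⟩ := Fusion.exists_normal_elementary_card_sq hodd hX hnc
    exact ⟨E, hE, hEc, hEe.2⟩
  obtain ⟨A, -, hA, hAc, hmax⟩ := Fusion.exists_maximal_normal_abelian (⊥ : Subgroup X) inferInstance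
  have hCA := Fusion.centralizer_eq_of_maximal_normal_abelian hX A hAc hmax
  by_cases hbig : ∃ x y : A, orderOf x = 2 ∧ orderOf y = 2 ∧ x ≠ y
  · obtain ⟨x, y, hx, hy, hxy⟩ := hbig
    have hcomm : ∀ v ∈ A, ∀ w ∈ A, v * w = w * v := fun v hv w hw =>
      congrArg Subtype.val (hAc.is_comm.comm (⟨v, hv⟩ : A) ⟨w, hw⟩)
    let N : Subgroup X :=
      { carrier := {v | v ∈ A ∧ v ^ 2 = 1}
        one_mem' := ⟨A.one_mem, one_pow 2⟩
        mul_mem' := fun {v w} hv hw => ⟨A.mul_mem hv.1 hw.1, by
          rw [(show Commute v w from hcomm v hv.1 w hw.1).mul_pow, hv.2, hw.2, one_mul]⟩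
        inv_mem' := fun {v} hv => ⟨A.inv_mem hv.1, by rw [inv_pow, hv.2, inv_one]⟩ }
    have hN : N.Normal := ⟨fun v hv g => ⟨hA.conj_mem v hv.1 g, by
      rw [conj_pow, hv.2, mul_one, mul_inv_cancel]⟩⟩
    have hxN : (x : X) ∈ N := ⟨x.2, by rw [← SubgroupClass.coe_pow, ← hx, pow_orderOf_eq_one]; rfl⟩
    have hyN : (y : X) ∈ N := ⟨y.2, by rw [← SubgroupClass.coe_pow, ← hy, pow_orderOf_eq_one]; rfl⟩
    obtain ⟨j, hj⟩ := exists_card_pow_of_subgroup hX N
    have h3 : 3 ≤ Nat.card N := by
      have hx1 : (x : X) ≠ 1 := fun h => by rw [← orderOf_coe, h, orderOf_one] at hx; omega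
      have hy1 : (y : X) ≠ 1 := fun h => by rw [← orderOf_coe, h, orderOf_one] at hy; omega
      have hsub : ({1, (x : X), (y : X)} : Set X) ⊆ N := by
        rintro v (rfl | rfl | rfl)
        exacts [N.one_mem, hxN, hyN]
      have h := Set.ncard_le_ncard hsub (Set.toFinite _)
      rw [Set.ncard_insert_of_notMem (by simp [hx1.symm, hy1.symm]),
        Set.ncard_pair (fun h' => hxy (Subtype.ext h'))] at h
      rw [← SetLike.coe_sort_coe, Nat.card_coe_set_eq]
      exact h
    have hj2 : 2 ≤ j := by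
      by_contra hlt
      rw [hj] at h3
      rcases (show j = 0 ∨ j = 1 by omega) with rfl | rfl <;> omega
    obtain ⟨L, hL, hLN, hLc⟩ := Fusion.exists_normal_le_card_eq hX N
      (hj ▸ Nat.pow_le_pow_right two_pos hj2)
    exact ⟨L, hL, hLc, fun v hv => (hLN hv).2⟩
  push Not at hbig
  have := hAc
  have hAcyc : IsCyclic A := Invol.isCyclic_of_unique_involution (hX.to_subgroup A) hbig
  by_cases hab : IsMulCommutative X
  · exfalso
    have htop : A = ⊤ := by
      rw [← hCA, eq_top_iff]
      exact fun x _ => mem_centralizer_iff.2 fun v _ => hab.is_comm.comm v x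
    subst htop
    exact hnc (Subgroup.topEquiv.isCyclic.1 hAcyc)
  obtain ⟨n, hn⟩ := exists_card_pow_of_subgroup hX A
  rcases cyclic_normal_cases hX hab A hAcyc hn hCA with ⟨-, -, h⟩ | ⟨-, hel, hc, hch⟩
  · exact absurd h (hmc rfl)
  · exact ⟨_, inferInstance, hc, hel.2⟩

theorem card_plane_inf (hX : IsPGroup p X) {E M : Subgroup X} [E.Normal] (hE : Nat.card E = p ^ 2)
    (hM : M.index = p) (hEM : ¬ E ≤ M) :
    Nat.card (E ⊓ M : Subgroup X) = p ∧ E ⊓ M ≤ center X ∧ E ⊔ M = ⊤ := by
  have : M.Normal := (max_facts hX hM).1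
  have hsup : E ⊔ M = ⊤ := by
    have hd : (E ⊔ M).index ∣ p := hM ▸ index_dvd_of_le le_sup_right
    rcases (Nat.dvd_prime hp.out).1 hd with h | h
    · exact index_eq_one.1 h
    · exact absurd (le_sup_left.trans (max_eq_of_le hM h le_sup_right).ge) hEM
  have hc : Nat.card (E ⊓ M : Subgroup X) = p := by
    have h1 : M.relIndex E = p := by
      rw [← relIndex_sup_right]
      first
        | rw [hsup, relIndex_top_right, hM]
        | rw [sup_comm, hsup, relIndex_top_right, hM]
    have h2 := ((E ⊓ M).subgroupOf E).card_mul_index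
    rw [Nat.card_congr (subgroupOfEquivOfLe inf_le_left).toEquiv, hE,
      show ((E ⊓ M).subgroupOf E).index = M.relIndex E by rw [← inf_relIndex_left]; rfl, h1, pow_two] at h2
    exact Nat.eq_of_mul_eq_mul_right hp.out.pos h2
  exact ⟨hc, Fusion.le_center_of_card_eq_prime hX _ hc, hsup⟩

theorem exists_lift (hX : IsPGroup p X) {E M : Subgroup X} [E.Normal] (hM : M.index = p)
    (hsup : E ⊔ M = ⊤) (x : X) : ∃ e ∈ E, x * e ∈ M := by
  obtain ⟨v, hv, w, hw, rfl⟩ := mem_sup_of_normal_left.1 (hsup ▸ mem_top x : x ∈ E ⊔ M)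
  refine ⟨w⁻¹ * v⁻¹ * w, ?_, ?_⟩
  · simpa using ‹E.Normal›.conj_mem _ (inv_mem hv) w⁻¹
  · rw [show v * w * (w⁻¹ * v⁻¹ * w) = w by group]; exact hw

/-- A maximal subgroup missing the plane is cyclic if another one is. -/
theorem cyclic_of_cyclic {m : ℕ} (hm : Nat.card X = p ^ m) (h3 : 3 ≤ m) (hmc : p = 2 → ¬ MC X)
    {E M₀ M : Subgroup X} [E.Normal] (hE : Nat.card E = p ^ 2) (hEp : ∀ e ∈ E, e ^ p = 1)
    (hM₀ : M₀.index = p) (hM : M.index = p) (hc₀ : IsCyclic M₀) (hEM₀ : ¬ E ≤ M₀) (hEM : ¬ E ≤ M) :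
    IsCyclic M := by
  have hX : IsPGroup p X := IsPGroup.of_card hm
  obtain ⟨hz, hzc, -⟩ := card_plane_inf hX hE hM₀ hEM₀
  obtain ⟨-, -, hsup⟩ := card_plane_inf hX hE hM hEM
  obtain ⟨⟨a, ha⟩, hgen⟩ := hc₀.exists_generator
  have hoa : orderOf a = p ^ (m - 1) := by
    rw [← (card_of_max hm hM₀).2, ← orderOf_eq_card_of_forall_mem_zpowers hgen, Subgroup.orderOf_mk]
  obtain ⟨e, he, hae⟩ := exists_lift hX hM hsup a
  set c := ⁅e, a⁆
  have hcZ : c ∈ E ⊓ M₀ := by
    refine ⟨?_, (max_facts hX hM₀).2.2 e a⟩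
    rw [show c = e * (a * e⁻¹ * a⁻¹) by simp only [c, commutatorElement_def]; group]
    exact mul_mem he (‹E.Normal›.conj_mem _ (inv_mem he) a)
  have hcomm : ∀ g : X, Commute c g := fun g => (mem_center_iff.1 (hzc hcZ) g).symm
  have hcp : c ^ p = 1 := hEp c hcZ.1
  set n := p ^ (m - 2)
  have hn : n * p = p ^ (m - 1) := by
    simp only [n]; rw [← pow_succ]; congr 1; omega
  have hpn : p ∣ n := dvd_pow_self p (by omega)
  have hch : c ^ n.choose 2 = 1 := by
    rcases eq_or_ne p 2 with rfl | hodd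
    · rcases Nat.lt_or_ge m 4 with hlt | hge
      · obtain rfl : m = 3 := by omega
        have hab : commutator X = ⊥ := by
          by_contra hne
          refine hmc rfl (mc_of_commutator hX (le_antisymm ?_ (four_le_index_commutator hX hne)) hne)
          have h1 := (commutator X).card_mul_index
          have h2 := (one_lt_card_iff_ne_bot _).2 hne
          rw [hm] at h1
          nlinarith
        have : c = 1 := mem_bot.1 (hab ▸ (by
          rw [_root_.commutator_def]; exact commutator_mem_commutator (mem_top e) (mem_top a)))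
        rw [this, one_pow]
      · have h4 : 4 ∣ n := (dvd_refl (2 ^ 2)).trans (pow_dvd_pow 2 (by omega))
        obtain ⟨t, ht⟩ := h4
        rw [ht, Nat.choose_two_right, show 4 * t * (4 * t - 1) / 2 = 2 * (t * (4 * t - 1)) by
          rw [show 4 * t * (4 * t - 1) = 2 * (2 * (t * (4 * t - 1))) by ring,
            Nat.mul_div_cancel_left _ two_pos], pow_mul, hcp, one_pow]
    · have hd : p ∣ n.choose 2 := by
        rw [Nat.choose_two_right]
        refine Nat.dvd_div_of_mul_dvd ?_
        exact Nat.Coprime.mul_dvd_of_dvd_of_dvd ((Nat.coprime_primes Nat.prime_two hp.out).2 hodd.symm)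
          (Nat.two_dvd_mul_sub_one n) (hpn.mul_right _)
      obtain ⟨t, ht⟩ := hd
      rw [ht, pow_mul, hcp, one_pow]
  have hen : e ^ n = 1 := by
    obtain ⟨t, ht⟩ := hpn
    rw [ht, pow_mul, hEp e he, one_pow]
  have hyn : (a * e) ^ n = a ^ n := by
    rw [Fusion.mul_pow_of_commute_commutator (hcomm a) (hcomm e) n, hch, hen, mul_one, mul_one]
  have hdvd : orderOf (a * e) ∣ n * p := by
    refine orderOf_dvd_of_pow_eq_one ?_
    rw [pow_mul, hyn, ← pow_mul, hn, ← hoa, pow_orderOf_eq_one]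
  have hord : orderOf (⟨a * e, hae⟩ : M) = Nat.card M := by
    rw [Subgroup.orderOf_mk, (card_of_max hm hM).2]
    obtain ⟨i, hi, hoi⟩ := (Nat.dvd_prime_pow hp.out).1 (hn ▸ hdvd)
    rw [hoi]
    by_contra hne
    have hi' : i ≤ m - 2 := by
      rcases Nat.lt_or_ge i (m - 1) with h | h
      · omega
      · exact absurd (by rw [show i = m - 1 by omega]) hne
    have h1 : (a * e) ^ n = 1 := orderOf_dvd_iff_pow_eq_one.1 (hoi ▸ pow_dvd_pow p hi')
    rw [hyn, ← orderOf_dvd_iff_pow_eq_one, hoa] at h1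
    have := (Nat.pow_dvd_pow_iff_le_right hp.out.one_lt).1 h1
    omega
  exact isCyclic_of_orderOf_eq_card _ hord

/-- A maximal subgroup missing the plane has maximal class if another one has (order at least 32). -/
theorem mc_of_mc {m : ℕ} (hm : Nat.card X = 2 ^ m) (h5 : 5 ≤ m) {E M₀ M : Subgroup X} [E.Normal]
    (hE : Nat.card E = 2 ^ 2) (hM₀ : M₀.index = 2) (hM : M.index = 2) (hc₀ : MC M₀)
    (hEM₀ : ¬ E ≤ M₀) (hEM : ¬ E ≤ M) : MC M := by
  have : Fact (Nat.Prime 2) := ⟨Nat.prime_two⟩
  have hX : IsPGroup 2 X := IsPGroup.of_card hm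
  obtain ⟨hz, hzc, -⟩ := card_plane_inf hX hE hM₀ hEM₀
  obtain ⟨-, -, hsup⟩ := card_plane_inf hX hE hM hEM
  set Z := E ⊓ M₀
  have : Z.Normal := ⟨fun v hv g => by rwa [mem_center_iff.1 (hzc hv) g, mul_inv_cancel_right]⟩
  set π := QuotientGroup.mk' Z
  have hEc : ∀ e ∈ E, ∀ g : X, Commute (π e) (π g) := by
    intro e he g
    rw [← commutatorElement_eq_one_iff_commute, ← map_commutatorElement]
    refine (QuotientGroup.eq_one_iff _).2 ⟨?_, (max_facts hX hM₀).2.2 e g⟩
    rw [show ⁅e, g⁆ = e * (g * e⁻¹ * g⁻¹) by simp only [commutatorElement_def]; group]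
    exact mul_mem he (‹E.Normal›.conj_mem _ (inv_mem he) g)
  have hle : ⁅M₀, M₀⁆ ≤ ⁅M, M⁆ ⊔ Z := by
    rw [commutator_le]
    intro x _ y _
    obtain ⟨e, he, hxe⟩ := exists_lift hX hM hsup x
    obtain ⟨f, hf, hyf⟩ := exists_lift hX hM hsup y
    have h1 : π ⁅x * e, y * f⁆ = π ⁅x, y⁆ := by
      rw [map_commutatorElement, map_commutatorElement, map_mul, map_mul, commutatorElement_def,
        commutatorElement_def, mul_inv_rev, mul_inv_rev]
      have c1 := hEc e he
      have c2 := hEc f hf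
      calc π x * π e * (π y * π f) * ((π e)⁻¹ * (π x)⁻¹) * ((π f)⁻¹ * (π y)⁻¹)
          = π x * ((π e * π y) * π f * (π e)⁻¹) * (π x)⁻¹ * (π f)⁻¹ * (π y)⁻¹ := by group
        _ = π x * (π y * (π e * π f) * (π e)⁻¹) * (π x)⁻¹ * (π f)⁻¹ * (π y)⁻¹ := by
          rw [(c1 y).eq]; group
        _ = π x * (π y * π f) * (π x)⁻¹ * (π f)⁻¹ * (π y)⁻¹ := by rw [(c1 f).eq]; group
        _ = π x * π y * (π f * (π x)⁻¹) * (π f)⁻¹ * (π y)⁻¹ := by group
        _ = π x * π y * ((π x)⁻¹ * π f) * (π f)⁻¹ * (π y)⁻¹ := by rw [((c2 x).inv_right).eq]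
        _ = π x * π y * (π x)⁻¹ * (π y)⁻¹ := by group
    have h2 : (⁅x * e, y * f⁆)⁻¹ * ⁅x, y⁆ ∈ Z := (QuotientGroup.eq).1 h1
    rw [← mul_inv_cancel_left ⁅x * e, y * f⁆ ⁅x, y⁆]
    exact mul_mem_sup (commutator_mem_commutator hxe hyf) h2
  -- an element of large order in the derived subgroup of `M₀`
  obtain ⟨a, b, u, -, ha, hi, hb, hu, he⟩ := MC_index_pow hc₀ (card_of_max hm hM₀).2
  set w : M₀ := ⁅b, a⁆ with hw
  have hwa : w = a ^ (2 * u) := by
    rw [hw, commutatorElement_def, he, zpow_add, zpow_one, mul_inv_cancel_right]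
  have hwo : orderOf w = 2 ^ (m - 3) := by
    rw [hwa]
    refine orderOf_eq_prime_pow (n := m - 4) (p := 2) ?_ ?_ |>.trans (by congr 1; omega)
    · intro hh
      rw [← zpow_natCast, ← zpow_mul, ← zpow_zero a, zpow_eq_iff ha, zero_sub, dvd_neg] at hh
      have hcop : IsCoprime ((2 : ℤ) ^ (m - 1 - 1)) u := by
        refine IsCoprime.pow_left ?_
        obtain ⟨s, hs⟩ := hu
        exact ⟨-s, 1, by rw [hs]; ring⟩
      rw [show 2 * u * ((2 ^ (m - 4) : ℕ) : ℤ) = u * 2 ^ (m - 3) by
        rw [show m - 3 = (m - 4) + 1 by omega, pow_add]; push_cast; ring] at hh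
      have h6 := Int.le_of_dvd (by positivity) (hcop.dvd_of_dvd_mul_left hh)
      rw [show m - 1 - 1 = (m - 3) + 1 by omega, pow_succ] at h6
      have := pow_pos (two_pos : (0 : ℤ) < 2) (m - 3)
      linarith
    · rw [← zpow_natCast, ← zpow_mul, ← zpow_zero a, zpow_eq_iff ha, zero_sub, dvd_neg]
      refine ⟨u, ?_⟩
      rw [show m - 1 - 1 = (m - 4) + 1 + 1 by omega]
      push_cast; ring
  have hwmem : (w : X) ∈ ⁅M₀, M₀⁆ := commutator_mem_commutator b.2 a.2
  -- the square of this element covers the central subgroup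
  have hw2 : (w : X) ^ 2 ∈ ⁅M, M⁆ := by
    obtain ⟨v, hv, z, hz', hvz⟩ := mem_sup_of_normal_right.1 (hle hwmem)
    have hz2 : z ^ 2 = 1 := by
      have h := pow_card_eq_one' (G := Z) (x := ⟨z, hz'⟩)
      rw [hz] at h
      exact congrArg Subtype.val h
    rw [← hvz, (show Commute v z from (mem_center_iff.1 (hzc hz') v)).mul_pow, hz2, mul_one]
    exact pow_mem hv 2
  have hZle : Z ≤ ⁅M, M⁆ := by
    intro z hz'
    have hzM₀ : z ∈ M₀ := hz'.2
    by_cases hz1 : z = 1
    · rw [hz1]; exact one_mem _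
    -- the only central involution of `M₀`
    set z₀ : M₀ := ⟨z, hzM₀⟩
    set q : M₀ := w ^ 2 ^ (m - 4)
    have hzcen : z₀ ∈ center M₀ := mem_center_iff.2 fun g => Subtype.ext (mem_center_iff.1 (hzc hz') g)
    have hqcen : q ∈ center M₀ := by
      have hq2 : q ^ 2 = 1 := by
        simp only [q]; rw [← pow_mul, ← pow_succ, show m - 4 + 1 = m - 3 by omega, ← hwo, pow_orderOf_eq_one]
      have hqa : q ∈ zpowers a := by simp only [q, hwa]; exact pow_mem (zpow_mem (mem_zpowers a) _) _
      obtain ⟨i, hi'⟩ := mem_zpowers_iff.1 hqa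
      refine mem_center_iff.2 fun g => ?_
      rw [← hi'] at hq2 ⊢
      by_cases hg : g ∈ zpowers a
      · obtain ⟨l, rfl⟩ := mem_zpowers_iff.1 hg
        exact ((Commute.refl a).zpow_zpow l i).eq
      · have e := conj_zpow_of_eq (conj_outside hi hb he hg) i
        rw [← mul_inv_eq_iff_eq_mul, e, zpow_eq_iff ha]
        rw [← zpow_natCast, ← zpow_mul, ← zpow_zero a, zpow_eq_iff ha, zero_sub, dvd_neg] at hq2
        obtain ⟨t, ht⟩ := hq2
        exact ⟨-(u * t), by push_cast at ht; linear_combination (-u) * ht⟩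
    have hq1 : q ≠ 1 := by
      intro h
      have h1 := orderOf_dvd_of_pow_eq_one h
      rw [hwo] at h1
      have := (Nat.pow_dvd_pow_iff_le_right one_lt_two).1 h1
      omega
    have heq : z₀ = q := by
      by_contra hne
      have hsub : ({1, z₀, q} : Set M₀) ⊆ center M₀ := by
        rintro v (rfl | rfl | rfl)
        exacts [(center M₀).one_mem, hzcen, hqcen]
      have h := Set.ncard_le_ncard hsub (Set.toFinite _)
      rw [Set.ncard_insert_of_notMem (by
          simp only [Set.mem_insert_iff, Set.mem_singleton_iff, not_or]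
          exact ⟨fun h' => hz1 (congrArg Subtype.val h').symm, hq1.symm⟩),
        Set.ncard_pair hne, ← Nat.card_coe_set_eq] at h
      have h2 := MC_center hc₀
      rw [SetLike.coe_sort_coe] at h
      omega
    have e : z = ((w : X) ^ 2) ^ 2 ^ (m - 5) := by
      rw [show z = ((q : M₀) : X) from congrArg Subtype.val heq, ← pow_mul, ← pow_succ',
        show m - 5 + 1 = m - 4 by omega]
      simp [q]
    rw [e]
    exact pow_mem hw2 _
  have hle' : ⁅M₀, M₀⁆ ≤ ⁅M, M⁆ := hle.trans (sup_le le_rfl hZle)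
  have hcardC : 2 ^ (m - 3) ≤ Nat.card (commutator M) := by
    rw [← card_map_of_injective (K := commutator M) M.subtype_injective, map_subtype_commutator,
      ← hwo, ← orderOf_coe, ← Nat.card_zpowers]
    exact card_le_of_le (zpowers_le.2 (hle' hwmem))
  have hne : commutator M ≠ ⊥ := fun h => by
    rw [h, card_bot] at hcardC
    exact absurd hcardC (Nat.one_lt_pow (by omega) one_lt_two).not_ge
  refine mc_of_commutator (hX.to_subgroup M) (le_antisymm ?_
    (four_le_index_commutator (hX.to_subgroup M) hne)) hne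
  have h1 := (commutator M).card_mul_index
  rw [(card_of_max hm hM).2, show 2 ^ (m - 1) = 2 ^ (m - 3) * 4 by
    rw [show m - 1 = (m - 3) + 2 by omega, pow_add]; norm_num] at h1
  by_contra hgt
  have := Nat.mul_le_mul hcardC (show 5 ≤ (commutator M).index by omega)
  have := Nat.two_pow_pos (m - 3)
  omega

theorem not_cyclic_of_plane {E M : Subgroup X} (hE : Nat.card E = p ^ 2) (hEp : ∀ e ∈ E, e ^ p = 1)
    (hEM : E ≤ M) : ¬ IsCyclic M := by
  intro hc
  have : Fintype M := Fintype.ofFinite M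
  have hs : (Finset.univ.filter fun x : M => x ∈ E.subgroupOf M) ⊆
      Finset.univ.filter fun x : M => x ^ p = 1 := fun x hx => by
    simp only [Finset.mem_filter, Finset.mem_univ, true_and, mem_subgroupOf] at hx ⊢
    exact Subtype.ext (hEp _ hx)
  have h := (Finset.card_le_card hs).trans (IsCyclic.card_pow_eq_one_le hp.out.pos)
  rw [← Fintype.card_subtype, ← Nat.card_eq_fintype_card] at h
  have e : Nat.card {x : M // x ∈ E.subgroupOf M} = p ^ 2 := by
    rw [← hE]; exact Nat.card_congr (subgroupOfEquivOfLe hEM).toEquiv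
  rw [e] at h
  have := hp.out.two_le
  nlinarith

/-- In a group of order 16, not of maximal class, with a maximal subgroup of maximal class, a
maximal subgroup is cyclic or of maximal class iff it misses the centre. -/
theorem sixteen (hm : Nat.card X = 2 ^ 4) (hmc : ¬ MC X) {M₀ : Subgroup X} (hM₀ : M₀.index = 2)
    (hc₀ : MC M₀) :
    (center X : Subgroup X) ≠ ⊤ ∧
      ∀ M ∈ maxs 2 X, ((IsCyclic M ∨ MC M) ↔ ¬ (center X : Subgroup X) ≤ M) := by
  have : Fact (Nat.Prime 2) := ⟨Nat.prime_two⟩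
  have hX : IsPGroup 2 X := IsPGroup.of_card hm
  have h8 : Nat.card M₀ = 2 ^ 3 := (card_of_max hm hM₀).2
  obtain ⟨a, b, u, -, ha, hi, hb, hu, he⟩ := MC_index_pow hc₀ h8
  have hna : ∃ x y : X, x * y ≠ y * x := by
    by_contra! h
    exact MC_not_cyclic hc₀ (by
      exfalso
      have e : b * a ^ (1 : ℤ) * b⁻¹ = a ^ (1 : ℤ) := by
        rw [zpow_one, mul_inv_eq_iff_eq_mul]; exact Subtype.ext (h _ _)
      have h2 := Int.le_of_dvd (by norm_num) (zpow_fixed ha hu he e)
      norm_num at h2)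
  have hne : commutator X ≠ ⊥ := fun hb' => by
    obtain ⟨x, y, hxy⟩ := hna
    exact hxy (commutatorElement_eq_one_iff_mul_comm.1 (mem_bot.1 (hb' ▸ (by
      rw [_root_.commutator_def]; exact commutator_mem_commutator (mem_top x) (mem_top y)))))
  have hX' : Nat.card (commutator X) ≤ 2 := by
    have h1 := (commutator X).card_mul_index
    have h4 := four_le_index_commutator hX hne
    have hne4 : (commutator X).index ≠ 4 := fun h => hmc (mc_of_commutator hX h hne)
    obtain ⟨j, hj⟩ := exists_card_pow_of_subgroup hX (commutator X)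
    rw [hm, hj] at h1
    rcases Nat.lt_or_ge j 2 with h | h
    · rw [hj]; exact (Nat.pow_le_pow_right two_pos (show j ≤ 1 by omega)).trans (le_of_eq (pow_one 2))
    · exfalso
      have : 4 ≤ 2 ^ j := le_trans (by norm_num) (Nat.pow_le_pow_right two_pos h)
      have h5 : 5 ≤ (commutator X).index := by omega
      nlinarith
  have hidx : ∀ x : X, (centralizer ({x} : Set X)).index ≤ 2 := by
    intro x
    have hmem : ∀ g : X, x⁻¹ * (g * x * g⁻¹) ∈ commutator X := fun g => by
      rw [_root_.commutator_def, show x⁻¹ * (g * x * g⁻¹) = ⁅x⁻¹, g⁆ by rw [commutatorElement_def]; group]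
      exact commutator_mem_commutator (mem_top _) (mem_top _)
    refine le_trans ?_ hX'
    rw [index_eq_card]
    refine Nat.card_le_card_of_injective (fun q => (⟨_, hmem q.out⟩ : commutator X)) fun q r h => ?_
    have h' : q.out * x * q.out⁻¹ = r.out * x * r.out⁻¹ := mul_left_cancel (congrArg Subtype.val h)
    rw [← Quotient.out_eq q, ← Quotient.out_eq r]
    refine QuotientGroup.eq.2 (mem_centralizer_singleton_iff.2 ?_)
    calc q.out⁻¹ * r.out * x = q.out⁻¹ * (r.out * x * r.out⁻¹) * r.out := by group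
      _ = q.out⁻¹ * (q.out * x * q.out⁻¹) * r.out := by rw [h']
      _ = x * (q.out⁻¹ * r.out) := by group
  set C := centralizer ({(a : X)} : Set X) ⊓ centralizer ({(b : X)} : Set X)
  have hC4 : 4 ≤ Nat.card C := by
    have h1 := C.card_mul_index
    have h2 : C.index ≤ 4 := (index_inf_le).trans (Nat.mul_le_mul (hidx _) (hidx _))
    rw [hm] at h1
    nlinarith
  have hCM : ∀ c ∈ C, ∀ v : M₀, Commute c (v : X) := by
    intro c hc v
    have hca : Commute c (a : X) := mem_centralizer_singleton_iff.1 hc.1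
    have hcb : Commute c (b : X) := mem_centralizer_singleton_iff.1 hc.2
    rcases cover_of_index_two hi hb v with hv | hv
    · obtain ⟨i, rfl⟩ := mem_zpowers_iff.1 hv
      rw [coe_zpow]; exact hca.zpow_right i
    · obtain ⟨i, hi'⟩ := mem_zpowers_iff.1 hv
      rw [show v = b * a ^ i by rw [hi']; group, coe_mul, coe_zpow]
      exact hcb.mul_right (hca.zpow_right i)
  have hnle : ¬ C ≤ M₀ := by
    intro hle
    have hsub : C.subgroupOf M₀ ≤ center M₀ := fun v hv =>
      mem_center_iff.2 fun g => Subtype.ext (hCM _ hv g).symm.eq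
    have h1 := card_le_of_le hsub
    rw [Nat.card_congr (subgroupOfEquivOfLe hle).toEquiv] at h1
    have := MC_center hc₀
    omega
  obtain ⟨t, htC, htM⟩ : ∃ t ∈ C, t ∉ M₀ := by
    by_contra! h; exact hnle h
  have hdec : ∀ g : X, g ∈ M₀ ∨ t⁻¹ * g ∈ M₀ := fun g => by
    by_cases hg : g ∈ M₀
    · exact Or.inl hg
    · exact Or.inr ((mul_mem_iff_of_index_two hM₀).2
        (iff_of_false (fun h => htM (by simpa using h)) hg))
  have htc : ∀ g : X, Commute t g := fun g => by
    rcases hdec g with hg | hg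
    · exact hCM t htC ⟨g, hg⟩
    · rw [show g = t * (t⁻¹ * g) by group]
      exact (Commute.refl t).mul_right (hCM t htC ⟨_, hg⟩)
  have hCZ : C ≤ center X := fun c hc => mem_center_iff.2 fun g => by
    rcases hdec g with hg | hg
    · exact (hCM c hc ⟨g, hg⟩).symm.eq
    · rw [show g = t * (t⁻¹ * g) by group]
      exact (((htc c).symm).mul_right (hCM c hc ⟨_, hg⟩)).symm.eq
  have hZ4 : 4 ≤ Nat.card (center X) := hC4.trans (card_le_of_le hCZ)
  have hZ4' : Nat.card (center X) ≤ 4 := by
    obtain ⟨j, hj⟩ := exists_card_pow_of_subgroup hX (center X)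
    have h1 := (center X).card_mul_index
    rw [hm, hj] at h1
    rw [hj]
    by_contra hlt
    have hj3 : 3 ≤ j := by
      by_contra hh
      exact hlt ((Nat.pow_le_pow_right two_pos (show j ≤ 2 by omega)).trans (by norm_num))
    have h8' : 8 ≤ 2 ^ j := le_trans (by norm_num) (Nat.pow_le_pow_right two_pos hj3)
    have hi2 : (center X).index ≤ 2 := by nlinarith
    have : IsCyclic (X ⧸ center X) := by
      have hp2 : (center X).index = 1 ∨ (center X).index = 2 := by
        have := (center X).index_ne_zero_of_finite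
        omega
      rcases hp2 with h | h
      · have : Subsingleton (X ⧸ center X) := (Nat.card_eq_one_iff_unique.1 h).1
        infer_instance
      · exact isCyclic_of_prime_card (p := 2) h
    obtain ⟨x, y, hxy⟩ := hna
    exact hxy (commutative_of_cyclic_center_quotient (QuotientGroup.mk' (center X))
      (by rw [QuotientGroup.ker_mk']) x y)
  have hnot : ¬ (center X : Subgroup X) ≤ M₀ := fun h => htM (h (hCZ htC))
  refine ⟨fun htop => ?_, fun M hM => ⟨fun hex hle => ?_, fun hle => ?_⟩⟩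
  · obtain ⟨x, y, hxy⟩ := hna
    exact hxy (mem_center_iff.1 (htop ▸ mem_top y) x)
  · rcases hex with hcyc | hmcM
    · -- the meet with `M₀` and the centre are both the subgroup of order 4 of `M`
      have hne' : M ≠ M₀ := fun h => MC_not_cyclic hc₀ (h ▸ hcyc)
      have h4 : Nat.card (M ⊓ M₀ : Subgroup X) = 4 := by
        have h := (M ⊓ M₀).card_mul_index
        rw [inf_index hX (mem_maxs.1 hM) hM₀ hne', hm] at h
        omega
      have hMc := (card_of_max hm (mem_maxs.1 hM)).2
      have huniq := subs_cyclic (p := 2) (k := 2) hcyc hMc (by omega)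
      obtain ⟨H, hH⟩ := Finset.card_eq_one.1 huniq
      have e1 : (center X).subgroupOf M = H := Finset.mem_singleton.1 (hH ▸ mem_subs.2 (by
        rw [Nat.card_congr (subgroupOfEquivOfLe hle).toEquiv]; omega))
      have e2 : (M ⊓ M₀).subgroupOf M = H := Finset.mem_singleton.1 (hH ▸ mem_subs.2 (by
        rw [Nat.card_congr (subgroupOfEquivOfLe inf_le_left).toEquiv, h4]; norm_num))
      refine hnot ?_
      rw [← map_subgroupOf_eq_of_le hle, e1, ← e2, map_subgroupOf_eq_of_le inf_le_left]
      exact inf_le_right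
    · have h1 := MC_center hmcM
      have hsub : (center X).subgroupOf M ≤ center M := fun v hv =>
        mem_center_iff.2 fun g => Subtype.ext (mem_center_iff.1 hv g)
      have h2 := card_le_of_le hsub
      rw [Nat.card_congr (subgroupOfEquivOfLe hle).toEquiv] at h2
      omega
  · right
    have hMp := mem_maxs.1 hM
    have hMc := (card_of_max hm hMp).2
    have : M.Normal := (max_facts hX hMp).1
    have hneM : commutator M ≠ ⊥ := by
      intro hb'
      obtain ⟨z, hz, hzM⟩ : ∃ z ∈ center X, z ∉ M := by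
        by_contra! h; exact hle h
      have hd : ∀ g : X, ∃ v ∈ M, g = v ∨ g = z * v := fun g => by
        by_cases hg : g ∈ M
        · exact ⟨g, hg, Or.inl rfl⟩
        · exact ⟨z⁻¹ * g, (mul_mem_iff_of_index_two hMp).2 (iff_of_false (fun h => hzM (by simpa using h)) hg),
            Or.inr (by group)⟩
      have hMab : ∀ v ∈ M, ∀ w ∈ M, Commute v w := fun v hv w hw =>
        congrArg Subtype.val (commutatorElement_eq_one_iff_mul_comm.1
          (show ⁅(⟨v, hv⟩ : M), (⟨w, hw⟩ : M)⁆ = 1 from mem_bot.1 (hb' ▸ (by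
            rw [_root_.commutator_def]
            exact commutator_mem_commutator (mem_top _) (mem_top _)))))
      have hzc : ∀ g, Commute z g := fun g => (mem_center_iff.1 hz g).symm
      obtain ⟨x, y, hxy⟩ := hna
      obtain ⟨v, hv, hv'⟩ := hd x
      obtain ⟨w, hw, hw'⟩ := hd y
      refine hxy ?_
      rcases hv' with rfl | rfl <;> rcases hw' with rfl | rfl
      · exact (hMab _ hv _ hw).eq
      · exact (((hzc _).symm).mul_right (hMab _ hv _ hw)).eq
      · exact ((hzc _).mul_left (hMab _ hv _ hw)).eq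
      · exact ((hzc _).mul_left (((hzc v).symm).mul_right (hMab _ hv _ hw))).eq
    refine mc_of_commutator (hX.to_subgroup M) (le_antisymm ?_
      (four_le_index_commutator (hX.to_subgroup M) hneM)) hneM
    have h1 := (commutator M).card_mul_index
    have h2 := (one_lt_card_iff_ne_bot _).2 hneM
    rw [hMc, show (2 : ℕ) ^ (4 - 1) = 8 from rfl] at h1
    by_contra hgt
    have := Nat.mul_le_mul (show 2 ≤ Nat.card (commutator M) by omega) (show 5 ≤ (commutator M).index by omega)
    omega

end Cfsg.Agent.SubgroupCount
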