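import Cfsg.Agent.SubgroupCount.Basic
import Cfsg.Agent.MaxClass.Class

/-!
Facts on the 2-groups of maximal class used in counting their subgroups modulo four.
-/

set_option autoImplicit false

namespace Cfsg.Agent.SubgroupCount

open Subgroup Cfsg.Agent.MaxClass
open scoped Classical commutatorElement

universe u

variable {p : ℕ} [hp : Fact p.Prime] {X : Type u} [Group X] [Finite X]

theorem subs_cyclic {k m : ℕ} (hX : IsCyclic X) (hm : Nat.card X = p ^ m) (hk : k ≤ m) :
    (subs p k X).card = 1 := by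
  have : Fintype X := Fintype.ofFinite X
  obtain ⟨H, hH⟩ := Sylow.exists_subgroup_card_pow_prime p (G := X) (n := k) (hm ▸ pow_dvd_pow p hk)
  refine Finset.card_eq_one.2 ⟨H, Finset.eq_singleton_iff_unique_mem.2 ⟨mem_subs.2 hH, fun K hK => ?_⟩⟩
  rw [mem_subs] at hK
  have key : ∀ L : Subgroup X, Nat.card L = p ^ k →
      (Finset.univ.filter fun x : X => x ∈ L) = Finset.univ.filter fun x : X => x ^ p ^ k = 1 := by
    intro L hL
    refine Finset.eq_of_subset_of_card_le (fun x hx => ?_) ?_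
    · simp only [Finset.mem_filter, Finset.mem_univ, true_and] at hx ⊢
      have h := pow_card_eq_one' (G := L) (x := ⟨x, hx⟩)
      rw [hL] at h
      exact congrArg Subtype.val h
    · refine (IsCyclic.card_pow_eq_one_le (pow_pos hp.out.pos k)).trans ?_
      rw [← hL, Nat.card_eq_fintype_card, Fintype.card_subtype]
  ext x
  have := congrArg (fun s : Finset X => x ∈ s) ((key K hK).trans (key H hH).symm)
  simpa using this

theorem zpowers_ne_top (hnc : ¬ IsCyclic X) (x : X) : zpowers x ≠ ⊤ := fun h =>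
  hnc ⟨⟨x, fun y => (h ▸ mem_top y : y ∈ zpowers x)⟩⟩

theorem bot_ne_top (hnc : ¬ IsCyclic X) : (⊥ : Subgroup X) ≠ ⊤ := fun h => hnc ⟨⟨1, fun y => by
  rw [show y = 1 from (mem_bot (G := X)).1 (h ▸ mem_top y)]; exact (zpowers (1 : X)).one_mem⟩⟩

theorem maxs_eq_ovr : maxs p X = ovr p (⊥ : Subgroup X) := by
  ext M; simp [mem_over, mem_maxs]

theorem maxs_ne_one (hX : IsPGroup p X) (hnc : ¬ IsCyclic X) : (maxs p X).card ≠ 1 := by
  intro h
  obtain ⟨M, hM⟩ := Finset.card_eq_one.1 h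
  have hMp : M.index = p := mem_maxs.1 (hM ▸ Finset.mem_singleton_self M)
  obtain ⟨x, hx⟩ : ∃ x, x ∉ M := by
    by_contra! hh
    exact max_ne_top hMp (eq_top_iff.2 fun x _ => hh x)
  obtain ⟨N, hN⟩ := exists_max hX (zpowers_ne_top hnc x)
  obtain ⟨hNp, hxN⟩ := mem_over.1 hN
  have : N = M := Finset.mem_singleton.1 (hM ▸ mem_maxs.2 hNp)
  exact hx (this ▸ hxN (mem_zpowers x))

theorem maxs_cast (hX : IsPGroup p X) (hnc : ¬ IsCyclic X) :
    ((maxs p X).card : ZMod (p ^ 2)) = 1 + p := by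
  have h := over_cast_sq hX (bot_ne_top hnc)
  rw [← maxs_eq_ovr, if_neg (maxs_ne_one hX hnc), mul_zero, add_zero] at h
  exact h

theorem not_le_fr (hX : IsPGroup p X) (hnc : ¬ IsCyclic X) :
    ∀ M ∈ maxs p X, ¬ M ≤ fr p X := fun M hM hle => maxs_ne_one hX hnc
  (Finset.card_eq_one.2 ⟨M, Finset.eq_singleton_iff_unique_mem.2 ⟨hM, fun N hN =>
    (max_eq_of_le (mem_maxs.1 hM) (mem_maxs.1 hN) (hle.trans (fr_le (mem_maxs.1 hN)))).symm⟩⟩)

theorem subs_top_step {n : ℕ} (hm : Nat.card X = p ^ (n + 1)) : subs p n X = maxs p X := by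
  ext H
  rw [mem_subs, mem_maxs]
  constructor
  · intro h
    have h1 := H.card_mul_index
    rw [h, hm, pow_succ] at h1
    exact Nat.eq_of_mul_eq_mul_left (pow_pos hp.out.pos n) h1
  · intro h
    exact (card_of_max hm h).2

section Two

variable {S : Type u} [Group S] [Finite S]

theorem MC_index_pow (h : MC S) {n : ℕ} (hn : Nat.card S = 2 ^ n) :
    ∃ (a b : S) (u : ℤ), 3 ≤ n ∧ orderOf a = 2 ^ (n - 1) ∧ (zpowers a).index = 2 ∧
      b ∉ zpowers a ∧ Odd u ∧ b * a * b⁻¹ = a ^ (2 * u + 1) := by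
  obtain ⟨m, a, b, u, hm, hc, ha, hi, hb, hu, he⟩ := h.data
  obtain rfl : n = m + 1 := Nat.pow_right_injective le_rfl (hn.symm.trans hc)
  exact ⟨a, b, u, by omega, ha, hi, hb, hu, he⟩

theorem three_le_of_MC (h : MC S) {n : ℕ} (hn : Nat.card S = 2 ^ n) : 3 ≤ n := by
  obtain ⟨a, b, u, h3, -⟩ := MC_index_pow h hn
  exact h3

/-- `a` to a power commuting with `b`. -/
theorem zpow_fixed {a b : S} {u : ℤ} {m : ℕ} (ha : orderOf a = 2 ^ m) (hu : Odd u)
    (he : b * a * b⁻¹ = a ^ (2 * u + 1)) {i : ℤ} (hc : b * a ^ i * b⁻¹ = a ^ i) : (2 : ℤ) ^ m ∣ 2 * i := by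
  rw [conj_zpow_of_eq he, zpow_eq_iff ha, show i - (2 * u + 1) * i = -(u * (2 * i)) by ring, dvd_neg] at hc
  refine (IsCoprime.pow_left ?_).dvd_of_dvd_mul_left hc
  obtain ⟨s, hs⟩ := hu
  exact ⟨-s, 1, by rw [hs]; ring⟩

theorem MC_not_cyclic (h : MC S) : ¬ IsCyclic S := by
  intro hc
  obtain ⟨m, a, b, u, hm, -, ha, -, -, hu, he⟩ := h.data
  have e : b * a ^ (1 : ℤ) * b⁻¹ = a ^ (1 : ℤ) := by
    rw [zpow_one, (IsCyclic.commGroup (α := S)).mul_comm b a, mul_inv_cancel_right]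
  have h2 := Int.le_of_dvd (by norm_num) (zpow_fixed ha hu he e)
  have : (4 : ℤ) ≤ 2 ^ m := by
    calc (4 : ℤ) = 2 ^ 2 := by norm_num
      _ ≤ _ := pow_le_pow_right₀ (by norm_num) hm
  omega

/-- An element outside `⟨a⟩` conjugates `a` as `b` does. -/
theorem conj_outside {a b g : S} {r : ℤ} (hi : (zpowers a).index = 2) (hb : b ∉ zpowers a)
    (he : b * a * b⁻¹ = a ^ r) (hg : g ∉ zpowers a) : g * a * g⁻¹ = a ^ r := by
  obtain ⟨i, hi'⟩ := mem_zpowers_iff.1 ((cover_of_index_two hi hb g).resolve_left hg)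
  rw [show g = b * a ^ i by rw [hi']; group,
    show b * a ^ i * a * (b * a ^ i)⁻¹ = b * a * b⁻¹ by group, he]

/-- A maximal class group of order at least 16 has no normal four-group. -/
theorem MC_no_four (h : MC S) {n : ℕ} (hn : Nat.card S = 2 ^ n) (h4 : 4 ≤ n) (U : Subgroup S)
    [U.Normal] (hU : Nat.card U = 4) (hU2 : ∀ x ∈ U, x ^ 2 = 1) : False := by
  obtain ⟨a, b, u, -, ha, hi, hb, hu, he⟩ := MC_index_pow h hn
  obtain ⟨g, hgU, hgA⟩ : ∃ g ∈ U, g ∉ zpowers a := by
    by_contra! hle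
    have : Fintype (zpowers a) := Fintype.ofFinite _
    have h1 : (U.subgroupOf (zpowers a)) ≤ U.subgroupOf (zpowers a) := le_rfl
    have hcard : Nat.card (U.subgroupOf (zpowers a)) = 4 := by
      rw [Nat.card_congr (subgroupOfEquivOfLe hle).toEquiv, hU]
    have hs : (Finset.univ.filter fun x : zpowers a => x ∈ U.subgroupOf (zpowers a)) ⊆
        Finset.univ.filter fun x : zpowers a => x ^ 2 = 1 := fun x hx => by
      simp only [Finset.mem_filter, Finset.mem_univ, true_and, mem_subgroupOf] at hx ⊢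
      exact Subtype.ext (hU2 _ hx)
    have h2 := (Finset.card_le_card hs).trans (IsCyclic.card_pow_eq_one_le two_pos)
    rw [← Fintype.card_subtype, ← Nat.card_eq_fintype_card] at h2
    omega
  have hga := conj_outside hi hb he hgA
  have hmem : a ^ (2 * u) ∈ U := by
    have e : a ^ (2 * u) = g * (a * g⁻¹ * a⁻¹) := by
      rw [show g * (a * g⁻¹ * a⁻¹) = g * a * g⁻¹ * a⁻¹ by group, hga, zpow_add, zpow_one,
        mul_inv_cancel_right]
    rw [e]
    exact mul_mem hgU (‹U.Normal›.conj_mem _ (inv_mem hgU) a)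
  have h2 := hU2 _ hmem
  rw [← zpow_natCast, ← zpow_mul, ← zpow_zero a, zpow_eq_iff ha, zero_sub, dvd_neg] at h2
  have hcop : IsCoprime ((2 : ℤ) ^ (n - 1)) u := by
    refine IsCoprime.pow_left ?_
    obtain ⟨s, hs⟩ := hu
    exact ⟨-s, 1, by rw [hs]; ring⟩
  rw [show 2 * u * ((2 : ℕ) : ℤ) = u * 4 by push_cast; ring] at h2
  have h5 := Int.le_of_dvd (by norm_num) (hcop.dvd_of_dvd_mul_left h2)
  have : (8 : ℤ) ≤ 2 ^ (n - 1) := by
    calc (8 : ℤ) = 2 ^ 3 := by norm_num
      _ ≤ _ := pow_le_pow_right₀ (by norm_num) (by omega)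
  omega

theorem MC_center (h : MC S) : Nat.card (center S) ≤ 2 := by
  obtain ⟨m, a, b, u, hm, hc, ha, hi, hb, hu, he⟩ := h.data
  obtain ⟨j, rfl⟩ : ∃ j, m = j + 2 := ⟨m - 2, by omega⟩
  have hmem : ∀ x ∈ center S, x = 1 ∨ x = a ^ ((2 : ℤ) ^ (j + 1)) := by
    intro x hx
    by_cases hxa : x ∈ zpowers a
    · obtain ⟨i, rfl⟩ := mem_zpowers_iff.1 hxa
      have h2 := zpow_fixed ha hu he (i := i)
        (by rw [mem_center_iff.1 hx b, mul_inv_cancel_right])
      rw [pow_succ' (2 : ℤ) (j + 1), mul_dvd_mul_iff_left (two_ne_zero : (2 : ℤ) ≠ 0)] at h2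
      obtain ⟨t, rfl⟩ := h2
      rcases Int.even_or_odd t with ⟨s, rfl⟩ | ⟨s, rfl⟩
      · left
        rw [← zpow_zero a, zpow_eq_iff ha]
        exact ⟨-s, by ring⟩
      · right
        rw [zpow_eq_iff ha]
        exact ⟨-s, by ring⟩
    · exfalso
      have e := conj_outside hi hb he hxa
      rw [show x * a * x⁻¹ = a from by rw [← mem_center_iff.1 hx a, mul_inv_cancel_right]] at e
      have e2 : b * a ^ (1 : ℤ) * b⁻¹ = a ^ (1 : ℤ) := by rw [zpow_one, he, ← e]
      have h2 := Int.le_of_dvd (by norm_num) (zpow_fixed ha hu he e2)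
      have : (4 : ℤ) ≤ 2 ^ (j + 2) := by
        rw [pow_add]; have := pow_pos (two_pos : (0 : ℤ) < 2) j; linarith
      omega
  have hsub : ((center S : Subgroup S) : Set S) ⊆ {1, a ^ ((2 : ℤ) ^ (j + 1))} := fun x hx => by
    rcases hmem x hx with h | h <;> simp [h]
  have h1 := Set.ncard_le_ncard hsub (Set.toFinite _)
  have h2 := Set.ncard_insert_le (1 : S) {a ^ ((2 : ℤ) ^ (j + 1))}
  rw [Set.ncard_singleton] at h2
  rw [← SetLike.coe_sort_coe, Nat.card_coe_set_eq]
  omega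

/-- The maximal subgroups of a maximal class group of order at least 16. -/
theorem MC_maxs (h : MC S) {n : ℕ} (hn : Nat.card S = 2 ^ n) (h4 : 4 ≤ n) :
    (∀ L ∈ maxs 2 S, IsCyclic L ∨ MC L) ∧
      ((maxs 2 S).filter fun L => IsCyclic (L : Subgroup S)).card = 1 := by
  have : Fact (Nat.Prime 2) := ⟨Nat.prime_two⟩
  have hS : IsPGroup 2 S := IsPGroup.of_card hn
  obtain ⟨a, b, u, -, ha, hi, hb, hu, he⟩ := MC_index_pow h hn
  have hA : zpowers a ∈ maxs 2 S := mem_maxs.2 hi
  have hmain : ∀ L ∈ maxs 2 S, L ≠ zpowers a → ¬ IsCyclic L ∧ MC L := by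
    intro L hL hne
    obtain ⟨g, hgL, hga⟩ : ∃ g ∈ L, g ∉ zpowers a := by
      by_contra! hle
      exact hne (max_eq_of_le (mem_maxs.1 hL) hi hle)
    have ha2 : a ^ 2 ∈ L := (max_facts hS (mem_maxs.1 hL)).2.1 a
    have hga' := conj_outside hi hb he hga
    set A : L := ⟨a ^ 2, ha2⟩
    set G : L := ⟨g, hgL⟩
    have hcomm : ((⁅G, A⁆ : L) : S) = a ^ (4 * u) := by
      show g * a ^ 2 * g⁻¹ * (a ^ 2)⁻¹ = _
      rw [← zpow_natCast, conj_zpow_of_eq hga', ← zpow_neg, ← zpow_add]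
      congr 1; push_cast; ring
    have hord : orderOf (⁅G, A⁆ : L) = 2 ^ (n - 3) := by
      rw [← orderOf_coe, hcomm]
      refine orderOf_eq_prime_pow (n := n - 4) (p := 2) ?_ ?_ |>.trans (by congr 1; omega)
      · intro hh
        rw [← zpow_natCast, ← zpow_mul, ← zpow_zero a, zpow_eq_iff ha, zero_sub, dvd_neg] at hh
        have hcop : IsCoprime ((2 : ℤ) ^ (n - 1)) u := by
          refine IsCoprime.pow_left ?_
          obtain ⟨s, hs⟩ := hu
          exact ⟨-s, 1, by rw [hs]; ring⟩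
        rw [show 4 * u * ((2 ^ (n - 4) : ℕ) : ℤ) = u * 2 ^ (n - 2) by
          rw [show n - 2 = (n - 4) + 2 by omega, pow_add]; push_cast; ring] at hh
        have h5 := Int.le_of_dvd (by positivity) (hcop.dvd_of_dvd_mul_left hh)
        rw [show n - 1 = (n - 2) + 1 by omega, pow_succ] at h5
        have := pow_pos (two_pos : (0 : ℤ) < 2) (n - 2)
        linarith
      · rw [← zpow_natCast, ← zpow_mul, ← zpow_zero a, zpow_eq_iff ha, zero_sub, dvd_neg]
        refine ⟨u, ?_⟩
        rw [show n - 1 = (n - 4) + 1 + 2 by omega, pow_add]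
        push_cast; ring
    have hne1 : (⁅G, A⁆ : L) ≠ 1 := fun h0 => by
      rw [h0, orderOf_one] at hord
      exact absurd hord.symm (Nat.one_lt_pow (by omega) one_lt_two).ne'
    have hnc : ¬ IsCyclic L := fun hc => hne1
      (commutatorElement_eq_one_iff_mul_comm.2 ((IsCyclic.commGroup (α := L)).mul_comm _ _))
    refine ⟨hnc, ?_⟩
    have hmem : (⁅G, A⁆ : L) ∈ commutator L := by
      rw [_root_.commutator_def]; exact commutator_mem_commutator (mem_top _) (mem_top _)
    have hne2 : commutator L ≠ ⊥ := fun hb' => hne1 (mem_bot.1 (hb' ▸ hmem))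
    refine mc_of_commutator (hS.to_subgroup L) (le_antisymm ?_ (four_le_index_commutator (hS.to_subgroup L) hne2)) hne2
    have h1 := (commutator L).card_mul_index
    rw [(card_of_max hn (mem_maxs.1 hL)).2] at h1
    have h2 : 2 ^ (n - 3) ≤ Nat.card (commutator L) := by
      rw [← hord, ← Nat.card_zpowers]; exact card_le_of_le (zpowers_le.2 hmem)
    rw [show 2 ^ (n - 1) = 2 ^ (n - 3) * 4 by
      rw [show n - 1 = (n - 3) + 2 by omega, pow_add]; norm_num] at h1
    by_contra hgt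
    have := Nat.mul_le_mul h2 (show 5 ≤ (commutator L).index by omega)
    have := Nat.two_pow_pos (n - 3)
    omega
  refine ⟨fun L hL => ?_, Finset.card_eq_one.2 ⟨zpowers a, ?_⟩⟩
  · by_cases hc : L = zpowers a
    · exact Or.inl (hc ▸ inferInstance)
    · exact Or.inr (hmain L hL hc).2
  · refine Finset.eq_singleton_iff_unique_mem.2 ⟨Finset.mem_filter.2 ⟨hA, inferInstance⟩, fun L hL => ?_⟩
    by_contra hc
    exact (hmain L (Finset.mem_filter.1 hL).1 hc).1 (Finset.mem_filter.1 hL).2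

theorem subs_one_eq_involutions (Y : Type u) [Group Y] [Finite Y] :
    (subs 2 1 Y).card = Nat.card {x : Y // orderOf x = 2} := by
  have : Fact (Nat.Prime 2) := ⟨Nat.prime_two⟩
  rw [← Fintype.card_coe, ← Nat.card_eq_fintype_card]
  symm
  refine Nat.card_eq_of_bijective (fun x : {x : Y // orderOf x = 2} =>
    (⟨zpowers x.1, mem_subs.2 (by rw [Nat.card_zpowers, x.2, pow_one])⟩ : subs 2 1 Y)) ⟨?_, ?_⟩
  · rintro ⟨x, hx⟩ ⟨y, hy⟩ hxy
    have h : zpowers x = zpowers y := congrArg Subtype.val hxy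
    obtain ⟨i, hi⟩ := mem_zpowers_iff.1 (h ▸ mem_zpowers x : x ∈ zpowers y)
    refine Subtype.ext ?_
    rw [← zpow_mod_orderOf, hy] at hi
    rcases Int.emod_two_eq i with e | e
    · rw [show i % ((2 : ℕ) : ℤ) = 0 from e, zpow_zero] at hi
      rw [← hi, orderOf_one] at hx
      omega
    · rw [show i % ((2 : ℕ) : ℤ) = 1 from e, zpow_one] at hi
      exact hi.symm
  · rintro ⟨H, hH⟩
    rw [mem_subs, pow_one] at hH
    obtain ⟨x, hxH, hx1⟩ : ∃ x ∈ H, x ≠ 1 := by
      by_contra! hall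
      rw [(eq_bot_iff_forall H).2 hall, card_bot] at hH
      omega
    have hord : orderOf x = 2 := by
      have hd := orderOf_dvd_natCard H hxH
      rw [hH] at hd
      rcases (Nat.dvd_prime Nat.prime_two).1 hd with h | h
      · exact absurd (orderOf_eq_one_iff.1 h) hx1
      · exact h
    exact ⟨⟨x, hord⟩, Subtype.ext (eq_of_le_of_card_ge (zpowers_le.2 hxH)
      (by rw [hH, Nat.card_zpowers, hord]))⟩

theorem involutions_congr {Y Z : Type*} [Group Y] [Group Z] (e : Y ≃* Z) :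
    Nat.card {x : Y // orderOf x = 2} = Nat.card {x : Z // orderOf x = 2} :=
  Nat.card_congr (e.toEquiv.subtypeEquiv fun x => by
    show orderOf x = 2 ↔ orderOf (e x) = 2
    rw [show orderOf (e x) = orderOf x from orderOf_injective e.toMonoidHom e.injective x])

theorem orderOf_two_iff {Y : Type*} [Group Y] {x : Y} : orderOf x = 2 ↔ x * x = 1 ∧ x ≠ 1 := by
  rw [orderOf_eq_iff two_pos, pow_two]
  constructor
  · rintro ⟨h1, h2⟩
    exact ⟨h1, by simpa using h2 1 (by omega) one_pos⟩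
  · rintro ⟨h1, h2⟩
    refine ⟨h1, fun m hm hm0 => ?_⟩
    obtain rfl : m = 1 := by omega
    simpa using h2

/-- The subgroups of order two of a maximal class group of order eight. -/
theorem MC_eight (h : MC S) (hn : Nat.card S = 2 ^ 3) : ((subs 2 1 S).card : ZMod (2 ^ 2)) = 1 := by
  rw [subs_one_eq_involutions]
  rcases h with ⟨k, ⟨e⟩⟩ | ⟨k, hc, -⟩ | ⟨k, ⟨e⟩⟩
  · have hk : k = 0 := by
      have h1 := Nat.card_congr e.toEquiv
      rw [hn, DihedralGroup.nat_card, ← pow_succ'] at h1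
      have := Nat.pow_right_injective le_rfl h1
      omega
    subst hk
    rw [involutions_congr e, Nat.card_congr (Equiv.subtypeEquivRight fun x => orderOf_two_iff),
      Nat.card_eq_fintype_card]
    decide
  · exfalso
    rw [hn] at hc
    have := Nat.pow_right_injective le_rfl hc
    omega
  · have hk : k = 0 := by
      have h1 := Nat.card_congr e.toEquiv
      rw [hn, Nat.card_eq_fintype_card, QuaternionGroup.card,
        show 4 * 2 ^ (k + 1) = 2 ^ (k + 3) by ring] at h1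
      have := Nat.pow_right_injective le_rfl h1
      omega
    subst hk
    rw [involutions_congr e, Nat.card_congr (Equiv.subtypeEquivRight fun x => orderOf_two_iff),
      Nat.card_eq_fintype_card]
    decide

end Two

end Cfsg.Agent.SubgroupCount
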